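import Mathlib.RingTheory.Length
import Mathlib.RingTheory.Ideal.Quotient.Basic
import Mathlib.RingTheory.Ideal.Quotient.Operations
import Mathlib.RingTheory.Ideal.Colon
import Mathlib.Algebra.Regular.SMul
import Mathlib.Tactic.LinearCombination
import Mathlib.Tactic.Ring

/-! Length bookkeeping for quotients by ideals. -/

set_option autoImplicit false
universe u

namespace K855.Len

variable {A : Type u} [CommRing A]

/-- `length A/L = length A/(L : x) + length A/(L + (x))`, with `L' = (L : x)` given by its membership. -/
theorem length_colon (L L' : Ideal A) (x : A) (h : ∀ y : A, y ∈ L' ↔ x * y ∈ L) :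
    Module.length A (A ⧸ L) = Module.length A (A ⧸ L') + Module.length A (A ⧸ (L ⊔ Ideal.span {x})) := by
  have hle : L' ≤ Submodule.comap (LinearMap.mulLeft A x) L := by
    intro y hy
    simpa [Submodule.mem_comap] using (h y).1 hy
  let f : (A ⧸ L') →ₗ[A] (A ⧸ L) := Submodule.mapQ L' L (LinearMap.mulLeft A x) hle
  let g : (A ⧸ L) →ₗ[A] (A ⧸ (L ⊔ Ideal.span {x})) :=
    Submodule.factor le_sup_left
  refine Module.length_eq_add_of_exact f g ?_ ?_ ?_
  · rw [← LinearMap.ker_eq_bot, LinearMap.ker_eq_bot']
    intro m hm
    obtain ⟨y, rfl⟩ := Submodule.Quotient.mk_surjective _ m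
    rw [Submodule.Quotient.mk_eq_zero]
    rw [h]
    have : f (Submodule.Quotient.mk y) = Submodule.Quotient.mk (x * y) := rfl
    rw [this, Submodule.Quotient.mk_eq_zero] at hm
    exact hm
  · exact Submodule.factor_surjective le_sup_left
  · intro m
    obtain ⟨y, rfl⟩ := Submodule.Quotient.mk_surjective _ m
    have hg : g (Submodule.Quotient.mk y) = Submodule.Quotient.mk y := rfl
    rw [hg, Submodule.Quotient.mk_eq_zero]
    constructor
    · intro hy
      obtain ⟨a, ha, b, hb, hab⟩ := Submodule.mem_sup.1 hy
      obtain ⟨c, rfl⟩ := Ideal.mem_span_singleton'.1 hb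
      refine ⟨Submodule.Quotient.mk c, ?_⟩
      have : f (Submodule.Quotient.mk c) = Submodule.Quotient.mk (x * c) := rfl
      rw [this, Submodule.Quotient.eq]
      have : x * c - y = -a := by rw [← hab]; ring
      rw [this]
      exact neg_mem ha
    · rintro ⟨z, hz⟩
      obtain ⟨c, rfl⟩ := Submodule.Quotient.mk_surjective _ z
      have : f (Submodule.Quotient.mk c) = Submodule.Quotient.mk (x * c) := rfl
      rw [this, Submodule.Quotient.eq] at hz
      have h2 : y = -(x * c - y) + c * x := by ring
      rw [h2]
      exact Submodule.add_mem_sup (neg_mem hz) (Ideal.mem_span_singleton'.2 ⟨c, rfl⟩)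

/-- Length only depends on the ideal. -/
theorem length_congr {I J : Ideal A} (h : I = J) :
    Module.length A (A ⧸ I) = Module.length A (A ⧸ J) := by rw [h]

end K855.Len
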