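import Groth.Prelude.Def_W4c2arithlefschetzNode
import Groth.Agent.ArLef.K855.Len
import Mathlib.RingTheory.Filtration
import Mathlib.RingTheory.LocalRing.MaximalIdeal.Basic
import Mathlib.RingTheory.SimpleModule.Basic

/-! Fixed-point ideals in Noetherian local rings with two topological generators. -/

set_option autoImplicit false
universe u

open IsLocalRing

namespace K855.Abs

variable {N : Type u} [CommRing N]

theorem mem_of_forall_pow [IsNoetherianRing N] [IsLocalRing N] (J : Ideal N) (x : N)
    (h : ∀ n : ℕ, x ∈ J ⊔ maximalIdeal N ^ n) : x ∈ J := by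
  have h1 := Ideal.iInf_pow_smul_eq_bot_of_isLocalRing (M := N ⧸ J) (maximalIdeal N)
    (Ideal.IsPrime.ne_top inferInstance)
  rw [← Submodule.Quotient.mk_eq_zero (p := J), ← Submodule.mem_bot (R := N), ← h1,
    Submodule.mem_iInf]
  intro n
  obtain ⟨a, ha, b, hb, rfl⟩ := Submodule.mem_sup.1 (h n)
  have : (Submodule.Quotient.mk (a + b) : N ⧸ J) = b • (Submodule.Quotient.mk 1 : N ⧸ J) := by
    rw [← Submodule.Quotient.mk_smul, Submodule.Quotient.eq]
    simpa using ha
  rw [this]
  exact Submodule.smul_mem_smul hb Submodule.mem_top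

/-- If `σ r - r ∈ J` for the (topological) generators, then for all `r`. -/
theorem sub_mem_of_gens [IsNoetherianRing N] [IsLocalRing N] (J : Ideal N) (σ : N →+* N) (t e : N)
    (ht : t ∈ maximalIdeal N) (he : e ∈ maximalIdeal N) (S : Set N)
    (hS : ∀ r : N, ∃ b ∈ S, ∃ g h : N, r = b + t * g + e * h)
    (hSJ : ∀ b ∈ S, σ b - b ∈ J) (htJ : σ t - t ∈ J) (heJ : σ e - e ∈ J) (r : N) :
    σ r - r ∈ J := by
  apply mem_of_forall_pow
  intro n
  revert r
  induction n with
  | zero => intro r; simp
  | succ n ih =>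
    intro r
    obtain ⟨b, hb, g, h, rfl⟩ := hS r
    have hg := ih g
    have hh := ih h
    have e1 : σ (b + t * g + e * h) - (b + t * g + e * h) =
        ((σ b - b) + (σ t - t) * σ g + (σ e - e) * σ h) + (t * (σ g - g) + e * (σ h - h)) := by
      rw [map_add, map_add, map_mul, map_mul]; ring
    rw [e1]
    apply Ideal.add_mem
    · apply Ideal.mem_sup_left
      exact add_mem (add_mem (hSJ b hb) (Ideal.mul_mem_right _ _ htJ)) (Ideal.mul_mem_right _ _ heJ)
    · have key : ∀ x ∈ maximalIdeal N, ∀ y ∈ J ⊔ maximalIdeal N ^ n, x * y ∈ J ⊔ maximalIdeal N ^ (n + 1) := by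
        intro x hx y hy
        obtain ⟨p, hp, q, hq, rfl⟩ := Submodule.mem_sup.1 hy
        rw [mul_add, pow_succ']
        exact Submodule.add_mem_sup (Ideal.mul_mem_left _ _ hp) (Ideal.mul_mem_mul hx hq)
      exact add_mem (key t ht _ hg) (key e he _ hh)

theorem sub_mem_fixIdeal (σ : N → N) (r : N) : σ r - r ∈ ArLef.fixIdeal σ :=
  Ideal.subset_span ⟨r, rfl⟩

/-- The fixed-point ideal equals `J` if `J` is contained in it and contains the differences at generators. -/
theorem fixIdeal_eq [IsNoetherianRing N] [IsLocalRing N] (J : Ideal N) (σ : N →+* N) (t e : N)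
    (ht : t ∈ maximalIdeal N) (he : e ∈ maximalIdeal N) (S : Set N)
    (hS : ∀ r : N, ∃ b ∈ S, ∃ g h : N, r = b + t * g + e * h)
    (hSJ : ∀ b ∈ S, σ b - b ∈ J) (htJ : σ t - t ∈ J) (heJ : σ e - e ∈ J)
    (hJ : J ≤ ArLef.fixIdeal σ) : ArLef.fixIdeal σ = J := by
  apply le_antisymm _ hJ
  unfold ArLef.fixIdeal
  rw [Ideal.span_le]
  rintro _ ⟨r, rfl⟩
  exact sub_mem_of_gens J σ t e ht he S hS hSJ htJ heJ r

theorem length_maximal [IsLocalRing N] (I : Ideal N) (h : I = maximalIdeal N) :
    Module.length N (N ⧸ I) = 1 := by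
  subst h
  rw [Module.length_eq_one_iff]
  exact isSimpleModule_iff_isCoatom.2 (Ideal.isMaximal_def.1 (inferInstance : (maximalIdeal N).IsMaximal))

/-- Quotient by `(x, y^n)` for `x` such that `y` is a non-zero-divisor modulo `x`. -/
theorem length_pair_pow (x y : N) (h : ∀ z, y * z ∈ Ideal.span {x} → z ∈ Ideal.span {x}) (n : ℕ) :
    Module.length N (N ⧸ Ideal.span {x, y ^ n}) = n * Module.length N (N ⧸ Ideal.span {x, y}) := by
  induction n with
  | zero =>
    have : Ideal.span {x, y ^ 0} = (⊤ : Ideal N) := by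
      rw [Ideal.eq_top_iff_one]
      exact Ideal.subset_span (by simp)
    rw [K855.Len.length_congr this]
    simp
  | succ n ih =>
    rw [K855.Len.length_colon (Ideal.span {x, y ^ (n + 1)}) (Ideal.span {x, y ^ n}) y, ih]
    · have h1 : Ideal.span {x, y ^ (n + 1)} ⊔ Ideal.span {y} = Ideal.span {x, y} := by
        apply le_antisymm
        · refine sup_le ?_ ?_
          · rw [Ideal.span_le]
            rintro z (rfl | rfl)
            · exact Ideal.subset_span (by simp)
            · rw [pow_succ]
              exact Ideal.mul_mem_left _ _ (Ideal.subset_span (by simp))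
          · rw [Ideal.span_singleton_le_iff_mem]
            exact Ideal.subset_span (by simp)
        · rw [Ideal.span_le]
          rintro z (rfl | rfl)
          · exact Ideal.mem_sup_left (Ideal.subset_span (by simp))
          · exact Ideal.mem_sup_right (Ideal.mem_span_singleton_self _)
      rw [K855.Len.length_congr h1]
      push_cast
      rw [add_mul, one_mul]
    · intro z
      rw [Ideal.mem_span_pair, Ideal.mem_span_pair]
      constructor
      · rintro ⟨a, b, rfl⟩
        exact ⟨y * a, b, by ring⟩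
      · rintro ⟨a, b, hab⟩
        have h2 : y * (z - b * y ^ n) ∈ Ideal.span {x} := by
          rw [Ideal.mem_span_singleton']
          exact ⟨a, by linear_combination hab⟩
        obtain ⟨c, hc⟩ := Ideal.mem_span_singleton'.1 (h _ h2)
        exact ⟨c, b, by linear_combination hc⟩

/-- `length N/(x, yz) = length N/(x, y) + length N/(x, z)` for `y` a non-zero-divisor modulo `x`. -/
theorem length_pair_mul (x y z : N) (h : ∀ w, y * w ∈ Ideal.span {x} → w ∈ Ideal.span {x}) :
    Module.length N (N ⧸ Ideal.span {x, y * z}) =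
      Module.length N (N ⧸ Ideal.span {x, y}) + Module.length N (N ⧸ Ideal.span {x, z}) := by
  rw [K855.Len.length_colon (Ideal.span {x, y * z}) (Ideal.span {x, z}) y, add_comm]
  · congr 1
    apply K855.Len.length_congr
    apply le_antisymm
    · refine sup_le ?_ ?_
      · rw [Ideal.span_le]
        rintro w (rfl | rfl)
        · exact Ideal.subset_span (by simp)
        · exact Ideal.mul_mem_right _ _ (Ideal.subset_span (by simp))
      · rw [Ideal.span_singleton_le_iff_mem]
        exact Ideal.subset_span (by simp)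
    · rw [Ideal.span_le]
      rintro w (rfl | rfl)
      · exact Ideal.mem_sup_left (Ideal.subset_span (by simp))
      · exact Ideal.mem_sup_right (Ideal.mem_span_singleton_self _)
  · intro w
    rw [Ideal.mem_span_pair, Ideal.mem_span_pair]
    constructor
    · rintro ⟨a, b, rfl⟩
      exact ⟨y * a, b, by ring⟩
    · rintro ⟨a, b, hab⟩
      have h2 : y * (w - b * z) ∈ Ideal.span {x} := by
        rw [Ideal.mem_span_singleton']
        exact ⟨a, by linear_combination hab⟩
      obtain ⟨c, hc⟩ := Ideal.mem_span_singleton'.1 (h _ h2)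
      exact ⟨c, b, by linear_combination hc⟩

/-- A prime element not dividing `x` is a non-zero-divisor modulo `x`, in a domain. -/
theorem regular_of_prime [IsDomain N] {p x : N} (hp : Prime p) (hx : ¬ p ∣ x) (z : N)
    (hz : p * z ∈ Ideal.span {x}) : z ∈ Ideal.span {x} := by
  rw [Ideal.mem_span_singleton'] at hz ⊢
  obtain ⟨a, ha⟩ := hz
  have h1 : p ∣ a * x := ⟨z, ha⟩
  rcases hp.dvd_or_dvd h1 with ⟨c, rfl⟩ | h2
  · refine ⟨c, mul_left_cancel₀ hp.ne_zero ?_⟩
    rw [← ha]; ring
  · exact absurd h2 hx

end K855.Abs
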