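import Groth.Agent.ArLef.K855.Piece
import Groth.Agent.Dix.ExcCurve
import Groth.Agent.Models.EtRadical
import Groth.Agent.Ega1.ReducedSub

/-! The exceptional fibre of the blow-up of finitely many closed points with regular local rings of dimension two. -/

set_option autoImplicit false
universe u

open CategoryTheory CategoryTheory.Limits AlgebraicGeometry

namespace K855.Blow

open Groth.Agent.Dix.PointIdeal

/-- The complement of `F \ {x}`. -/
def nb {X : Scheme.{u}} (F : Finset X) (hFc : ∀ x ∈ F, IsClosed ({x} : Set X)) (x : X) : X.Opens :=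
  ⟨((F : Set X) \ {x})ᶜ, by
    rw [isOpen_compl_iff]
    have h : ((F : Set X) \ {x}) = ⋃ y ∈ ((F : Set X) \ {x}), {y} := (Set.biUnion_of_singleton _).symm
    rw [h]
    exact (F.finite_toSet.subset Set.sdiff_subset).isClosed_biUnion fun y hy => hFc y hy.1⟩

variable {X : Scheme.{u}} (F : Finset X) (hFc : ∀ x ∈ F, IsClosed ({x} : Set X))

lemma mem_nb (x : X) : x ∈ nb F hFc x := by
  show x ∈ ((F : Set X) \ {x})ᶜ
  simp

lemma eq_of_mem_nb {x y : X} (hy : y ∈ F) (h : y ∈ nb F hFc x) : y = x := by
  have h' : y ∉ ((F : Set X) \ {x}) := h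
  by_contra hne
  exact h' ⟨hy, hne⟩

variable (hF : IsClosed (F : Set X))

/-- the point of the neighbourhood -/
def npt (x : X) : (nb F hFc x : Scheme.{u}) := ⟨x, mem_nb F hFc x⟩

lemma isClosed_npt {x : X} (hx : x ∈ F) : IsClosed ({npt F hFc x} : Set (nb F hFc x : Scheme.{u})) := by
  have h : ({npt F hFc x} : Set (nb F hFc x : Scheme.{u})) = (nb F hFc x).ι ⁻¹' {x} := by
    ext y
    simp only [Set.mem_singleton_iff, Set.mem_preimage]
    constructor
    · rintro rfl
      rfl
    · intro h
      exact Subtype.ext h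
  rw [h]
  exact (hFc x hx).preimage (nb F hFc x).ι.continuous

lemma comap_vanishingIdeal [IsLocallyNoetherian X] {x : X} (hx : x ∈ F) :
    (Scheme.IdealSheafData.vanishingIdeal (⟨(F : Set X), hF⟩ : TopologicalSpace.Closeds X)).comap (nb F hFc x).ι =
      pt (npt F hFc x) (isClosed_npt F hFc hx) := by
  rw [Groth.Agent.Models.EtRadical.comap_vanishingIdeal]
  unfold pt
  congr 1
  apply TopologicalSpace.Closeds.ext
  ext y
  show (nb F hFc x).ι y ∈ (F : Set X) ↔ y ∈ ({npt F hFc x} : Set _)
  simp only [Set.mem_singleton_iff]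
  constructor
  · intro h
    exact Subtype.ext (eq_of_mem_nb F hFc h y.2)
  · rintro rfl
    exact hx

/-- the residue field at the point of the neighbourhood -/
abbrev kap (x : X) : Type u :=
  (nb F hFc x : Scheme.{u}).presheaf.stalk (npt F hFc x) ⧸
    IsLocalRing.maximalIdeal ((nb F hFc x : Scheme.{u}).presheaf.stalk (npt F hFc x))

section piece

variable {X' : Scheme.{u}} (q : X' ⟶ X)
  (hq : BlowUp.IsBlowUp q
      (Scheme.IdealSheafData.vanishingIdeal (⟨(F : Set X), hF⟩ : TopologicalSpace.Closeds X)))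

include hq in
/-- The pieces of the exceptional fibre. -/
theorem exists_excPiece [IsLocallyNoetherian X] {x : X} (hx : x ∈ F)
    [IsRegularLocalRing (X.presheaf.stalk x)] (hdim : ringKrullDim (X.presheaf.stalk x) = 2) :
    ∃ a : CohB1.ProjSpace 1 (kap F hFc x) ⟶ pullback q
        (Scheme.IdealSheafData.vanishingIdeal (⟨(F : Set X), hF⟩ : TopologicalSpace.Closeds X)).subschemeι,
      IsOpenImmersion a ∧ Set.range a = (pullback.fst q
        (Scheme.IdealSheafData.vanishingIdeal (⟨(F : Set X), hF⟩ : TopologicalSpace.Closeds X)).subschemeι ≫ q) ⁻¹'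
          (nb F hFc x : Set X) := by
  have hb := Groth.Agent.S1680.result (nb F hFc x).ι _ q hq
  rw [comap_vanishingIdeal F hFc hF hx] at hb
  let e : (nb F hFc x : Scheme.{u}).presheaf.stalk (npt F hFc x) ≃+* X.presheaf.stalk x :=
    ((nb F hFc x).stalkIso (npt F hFc x)).commRingCatIsoToRingEquiv
  have : IsRegularLocalRing ((nb F hFc x : Scheme.{u}).presheaf.stalk (npt F hFc x)) :=
    IsRegularLocalRing.of_ringEquiv e.symm
  obtain ⟨i, hi, hk, -⟩ := Groth.Agent.Dix.ExcCurve.exists_curve (pullback.fst (nb F hFc x).ι q) (npt F hFc x)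
    (isClosed_npt F hFc hx) (by rw [ringKrullDim_eq_of_ringEquiv e, hdim]) hb
  exact K855.Piece.exists_piece q _ (nb F hFc x) i (by rw [hk, comap_vanishingIdeal F hFc hF hx])

/-- The pieces of the centre. -/
theorem exists_ctrPiece [IsLocallyNoetherian X] {x : X} (hx : x ∈ F) :
    ∃ a : Spec ((nb F hFc x : Scheme.{u}).residueField (npt F hFc x)) ⟶
        (Scheme.IdealSheafData.vanishingIdeal (⟨(F : Set X), hF⟩ : TopologicalSpace.Closeds X)).subscheme,
      IsOpenImmersion a ∧ Set.range a =
        (Scheme.IdealSheafData.vanishingIdeal (⟨(F : Set X), hF⟩ : TopologicalSpace.Closeds X)).subschemeι ⁻¹'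
          (nb F hFc x : Set X) := by
  have hj : IsClosedImmersion ((nb F hFc x : Scheme.{u}).fromSpecResidueField (npt F hFc x)) :=
    isClosed_singleton_iff_isClosedImmersion.1 (isClosed_npt F hFc hx)
  have hker : ((nb F hFc x : Scheme.{u}).fromSpecResidueField (npt F hFc x)).ker =
      pt (npt F hFc x) (isClosed_npt F hFc hx) := by
    rw [Groth.Agent.Ega1.ReducedSub.ker_eq_vanishingIdeal]
    unfold pt
    congr 1
    apply TopologicalSpace.Closeds.ext
    show closure (Set.range _) = ({npt F hFc x} : Set _)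
    rw [Scheme.range_fromSpecResidueField]
    exact (isClosed_npt F hFc hx).closure_eq
  have h0 : IsIso (pullback.fst (nb F hFc x).ι (𝟙 X)) := inferInstance
  have h00 : IsIso (pullback.snd (pullback.fst (nb F hFc x).ι (𝟙 X))
      ((nb F hFc x : Scheme.{u}).fromSpecResidueField (npt F hFc x))) := inferInstance
  obtain ⟨a, ha, hr⟩ := K855.Piece.exists_piece (𝟙 X)
    (Scheme.IdealSheafData.vanishingIdeal (⟨(F : Set X), hF⟩ : TopologicalSpace.Closeds X)) (nb F hFc x)
    (pullback.fst (pullback.fst (nb F hFc x).ι (𝟙 X))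
      ((nb F hFc x : Scheme.{u}).fromSpecResidueField (npt F hFc x)))
    (by rw [Scheme.IdealSheafData.ker_fst_of_isClosedImmersion, hker, comap_vanishingIdeal F hFc hF hx])
  refine ⟨inv (pullback.snd (pullback.fst (nb F hFc x).ι (𝟙 X))
      ((nb F hFc x : Scheme.{u}).fromSpecResidueField (npt F hFc x))) ≫ a ≫
    pullback.snd (𝟙 X) (Scheme.IdealSheafData.vanishingIdeal
      (⟨(F : Set X), hF⟩ : TopologicalSpace.Closeds X)).subschemeι, inferInstance, ?_⟩
  ext z
  constructor
  · rintro ⟨y, rfl⟩
    have h1 := Set.mem_range_self (f := a) (inv (pullback.snd (pullback.fst (nb F hFc x).ι (𝟙 X))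
      ((nb F hFc x : Scheme.{u}).fromSpecResidueField (npt F hFc x))) y)
    rw [hr, Set.mem_preimage, pullback.condition] at h1
    rw [Set.mem_preimage]
    simpa only [Scheme.Hom.comp_apply] using h1
  · intro hz
    obtain ⟨w, rfl⟩ := (pullback.snd (𝟙 X) (Scheme.IdealSheafData.vanishingIdeal
      (⟨(F : Set X), hF⟩ : TopologicalSpace.Closeds X)).subschemeι).surjective z
    have h1 : w ∈ Set.range a := by
      rw [hr, Set.mem_preimage, pullback.condition]
      rw [Set.mem_preimage] at hz
      simpa only [Scheme.Hom.comp_apply] using hz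
    obtain ⟨v, rfl⟩ := h1
    refine ⟨pullback.snd (pullback.fst (nb F hFc x).ι (𝟙 X))
      ((nb F hFc x : Scheme.{u}).fromSpecResidueField (npt F hFc x)) v, ?_⟩
    rw [← Scheme.Hom.comp_apply, IsIso.hom_inv_id_assoc, Scheme.Hom.comp_apply]

end piece

end K855.Blow
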