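import Groth.Agent.ArLef.K855.DVR

/-! Length computations in a regular node `N` with parameters `t`, `e`. -/

set_option autoImplicit false
universe u

open IsLocalRing

namespace K855.Calc

open K855.Abs K855.DVR

variable {N : Type u} [CommRing N]

/-- `length N/(x, y^n z^m) = n length N/(x,y) + m length N/(x,z)`. -/
theorem length_pow_mul_pow (x y z : N) (n m : ℕ)
    (hy : n ≠ 0 → ∀ w, y * w ∈ Ideal.span {x} → w ∈ Ideal.span {x})
    (hz : m ≠ 0 → ∀ w, z * w ∈ Ideal.span {x} → w ∈ Ideal.span {x}) :
    Module.length N (N ⧸ Ideal.span {x, y ^ n * z ^ m}) =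
      n * Module.length N (N ⧸ Ideal.span {x, y}) + m * Module.length N (N ⧸ Ideal.span {x, z}) := by
  by_cases hn : n = 0
  · subst hn
    have e1 : Ideal.span {x, y ^ 0 * z ^ m} = Ideal.span {x, z ^ m} := by rw [pow_zero, one_mul]
    rw [K855.Len.length_congr e1]
    by_cases hm : m = 0
    · subst hm
      have : Ideal.span {x, z ^ 0} = (⊤ : Ideal N) := by
        rw [Ideal.eq_top_iff_one]
        exact Ideal.subset_span (by simp)
      rw [K855.Len.length_congr this]
      simp
    · rw [length_pair_pow x z (hz hm) m]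
      simp
  · have hyn : ∀ k : ℕ, ∀ w, y ^ k * w ∈ Ideal.span {x} → w ∈ Ideal.span {x} := by
      intro k
      induction k with
      | zero => intro w hw; simpa using hw
      | succ k ih =>
        intro w hw
        apply ih
        apply hy hn
        rw [← mul_assoc, ← pow_succ']
        exact hw
    rw [length_pair_mul x (y ^ n) (z ^ m) (hyn n), length_pair_pow x y (hy hn) n]
    by_cases hm : m = 0
    · subst hm
      have : Ideal.span {x, z ^ 0} = (⊤ : Ideal N) := by
        rw [Ideal.eq_top_iff_one]
        exact Ideal.subset_span (by simp)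
      rw [K855.Len.length_congr this]
      simp
    · rw [length_pair_pow x z (hz hm) m]

theorem span_pair_congr {x y y' : N} (h1 : y' ∈ Ideal.span {x, y}) (h2 : y ∈ Ideal.span {x, y'}) :
    Ideal.span {x, y} = Ideal.span {x, y'} := by
  apply le_antisymm
  · rw [Ideal.span_le]
    rintro z (rfl | rfl)
    · exact Ideal.subset_span (by simp)
    · exact h2
  · rw [Ideal.span_le]
    rintro z (rfl | rfl)
    · exact Ideal.subset_span (by simp)
    · exact h1

section

variable {t e : N} (h : IsNode N t e)

include h

theorem length_te : Module.length N (N ⧸ Ideal.span {t, e}) = 1 := by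
  have := h.loc
  exact length_maximal _ h.max_eq.symm

theorem length_et : Module.length N (N ⧸ Ideal.span {e, t}) = 1 := length_te h.symm

/-- `length N/(e, t a) = 1 + length N/(e, a)` -/
theorem length_e_ta (a : N) : Module.length N (N ⧸ Ideal.span {e, t * a}) =
    1 + Module.length N (N ⧸ Ideal.span {e, a}) := by
  have := h.dom
  rw [length_pair_mul e t a (fun w hw => regular_of_prime h.prime_t h.not_te w hw), length_et h]

/-- The main computation: `L = (t^p e^q, t a, e b)` with `a + α b = c t^(p-1) e^(q-1)`, `α` a unit,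
`e ∤ a`, `t ∤ b`. -/
theorem length_main (p q : ℕ) (a b α c : N) (hα : IsUnit α)
    (hab : a + α * b = c * (t ^ p * e ^ q)) (hea : ¬ e ∣ a) (htb : ¬ t ∣ b) :
    Module.length N (N ⧸ Ideal.span {t ^ (p + 1) * e ^ (q + 1), t * a, e * b}) =
      1 + (p + 1 : ℕ) * Module.length N (N ⧸ Ideal.span {t, b}) +
        (q + 1 : ℕ) * Module.length N (N ⧸ Ideal.span {e, a}) := by
  have := h.dom
  have hcolon := K855.Len.length_colon (Ideal.span {t ^ (p + 1) * e ^ (q + 1), t * a, e * b})
    (Ideal.span {b, t ^ (p + 1) * e ^ q}) e (by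
      intro y
      constructor
      · intro hy
        obtain ⟨x, z, rfl⟩ := Ideal.mem_span_pair.1 hy
        rw [Ideal.mem_span_insert]
        refine ⟨z, x * (e * b), Ideal.mul_mem_left _ _ (Ideal.subset_span (by simp)), by ring⟩
      · intro hy
        rw [Ideal.mem_span_insert] at hy
        obtain ⟨x, w, hw, hx⟩ := hy
        obtain ⟨z, v, rfl⟩ := Ideal.mem_span_pair.1 hw
        have h1 : e ∣ z * t * a := ⟨y - x * (t ^ (p + 1) * e ^ q) - v * b, by linear_combination -hx⟩
        rcases h.prime_e.dvd_or_dvd h1 with h2 | h2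
        · rcases h.prime_e.dvd_or_dvd h2 with ⟨z', rfl⟩ | h3
          · have h4 : y = x * (t ^ (p + 1) * e ^ q) + z' * (t * a) + v * b := by
              apply mul_left_cancel₀ h.prime_e.ne_zero
              linear_combination hx
            rw [h4, Ideal.mem_span_pair]
            refine ⟨v - z' * t * α, x + z' * c, ?_⟩
            linear_combination (-z' * t) * hab
          · exact absurd h3 h.not_et
        · exact absurd h2 hea)
  rw [hcolon]
  have e1 : Ideal.span {t ^ (p + 1) * e ^ (q + 1), t * a, e * b} ⊔ Ideal.span {e} =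
      Ideal.span {e, t * a} := by
    apply le_antisymm
    · refine sup_le ?_ ?_
      · rw [Ideal.span_le]
        rintro z (rfl | rfl | rfl)
        · exact Ideal.mem_span_pair.2 ⟨t ^ (p + 1) * e ^ q, 0, by ring⟩
        · exact Ideal.subset_span (by simp)
        · exact Ideal.mem_span_pair.2 ⟨b, 0, by ring⟩
      · rw [Ideal.span_singleton_le_iff_mem]
        exact Ideal.subset_span (by simp)
    · rw [Ideal.span_le]
      rintro z (rfl | rfl)
      · exact Ideal.mem_sup_right (Ideal.mem_span_singleton_self _)
      · exact Ideal.mem_sup_left (Ideal.subset_span (by simp))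
  rw [K855.Len.length_congr e1, length_e_ta h]
  -- for q ≥ 1, `(b, e) = (a, e)`
  have hq : q ≠ 0 → Ideal.span {b, e} = Ideal.span {e, a} ∧ ¬ e ∣ b := by
    intro hq0
    obtain ⟨q', rfl⟩ := Nat.exists_eq_succ_of_ne_zero hq0
    obtain ⟨α', hα'⟩ := hα.exists_left_inv
    constructor
    · rw [Set.pair_comm b e]
      apply span_pair_congr
      · exact Ideal.mem_span_pair.2 ⟨c * t ^ p * e ^ q', -α, by
          rw [Nat.succ_eq_add_one, pow_succ] at hab
          linear_combination -hab⟩
      · refine Ideal.mem_span_pair.2 ⟨α' * c * t ^ p * e ^ q', -α', ?_⟩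
        rw [Nat.succ_eq_add_one, pow_succ] at hab
        linear_combination (-α') * hab + b * hα'
    · rintro ⟨b', rfl⟩
      apply hea
      refine ⟨c * t ^ p * e ^ q' - α * b', ?_⟩
      rw [Nat.succ_eq_add_one, pow_succ] at hab
      linear_combination hab
  rw [length_pow_mul_pow b t e (p + 1) q (fun _ w hw => regular_of_prime h.prime_t htb w hw)
    (fun hq0 w hw => regular_of_prime h.prime_e (hq hq0).2 w hw)]
  have e2 : Ideal.span {b, t} = Ideal.span {t, b} := by rw [Set.pair_comm]
  rw [K855.Len.length_congr e2]
  by_cases hq0 : q = 0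
  · subst hq0
    push_cast
    ring
  · rw [K855.Len.length_congr (hq hq0).1]
    push_cast
    ring

/-- `L = (t^(n+1), t a, b)` with `e a + α b = c t^n`, `α` a unit and `t ∤ b`. -/
theorem length_second (n : ℕ) (a b α c : N) (hα : IsUnit α)
    (hab : e * a + α * b = c * t ^ n) (htb : ¬ t ∣ b) :
    Module.length N (N ⧸ Ideal.span {t ^ (n + 1), t * a, b}) + (n : ℕ∞) =
      (n + 1 : ℕ) * Module.length N (N ⧸ Ideal.span {t, b}) := by
  have := h.dom
  obtain ⟨α', hα'⟩ := hα.exists_left_inv
  have hcolon := K855.Len.length_colon (Ideal.span {t ^ (n + 1), t * a, b})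
    (Ideal.span {a, t ^ n}) t (by
      intro y
      constructor
      · intro hy
        obtain ⟨x, z, rfl⟩ := Ideal.mem_span_pair.1 hy
        rw [Ideal.mem_span_insert]
        exact ⟨z, x * (t * a), Ideal.mul_mem_left _ _ (Ideal.subset_span (by simp)), by ring⟩
      · intro hy
        rw [Ideal.mem_span_insert] at hy
        obtain ⟨x, w, hw, hx⟩ := hy
        obtain ⟨z, v, rfl⟩ := Ideal.mem_span_pair.1 hw
        have h1 : t ∣ v * b := ⟨y - x * t ^ n - z * a, by linear_combination -hx⟩
        rcases h.prime_t.dvd_or_dvd h1 with ⟨v', rfl⟩ | h2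
        · have h4 : y = x * t ^ n + z * a + v' * b := by
            apply mul_left_cancel₀ h.prime_t.ne_zero
            linear_combination hx
          rw [h4, Ideal.mem_span_pair]
          refine ⟨z - v' * α' * e, x + v' * α' * c, ?_⟩
          linear_combination (-v' * α') * hab + (v' * b) * hα'
        · exact absurd h2 htb)
  have e1 : Ideal.span {t ^ (n + 1), t * a, b} ⊔ Ideal.span {t} = Ideal.span {t, b} := by
    apply le_antisymm
    · refine sup_le ?_ ?_
      · rw [Ideal.span_le]
        rintro z (rfl | rfl | rfl)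
        · exact Ideal.mem_span_pair.2 ⟨t ^ n, 0, by ring⟩
        · exact Ideal.mem_span_pair.2 ⟨a, 0, by ring⟩
        · exact Ideal.subset_span (by simp)
      · rw [Ideal.span_singleton_le_iff_mem]
        exact Ideal.subset_span (by simp)
    · rw [Ideal.span_le]
      rintro z (rfl | rfl)
      · exact Ideal.mem_sup_right (Ideal.mem_span_singleton_self _)
      · exact Ideal.mem_sup_left (Ideal.subset_span (by simp))
  rw [hcolon, K855.Len.length_congr e1]
  by_cases hn : n = 0
  · subst hn
    have : Ideal.span {a, t ^ 0} = (⊤ : Ideal N) := by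
      rw [Ideal.eq_top_iff_one]
      exact Ideal.subset_span (by simp)
    rw [K855.Len.length_congr this]
    simp
  · obtain ⟨m, rfl⟩ := Nat.exists_eq_succ_of_ne_zero hn
    have hta : ¬ t ∣ a := by
      rintro ⟨a', rfl⟩
      apply htb
      refine ⟨α' * (c * t ^ m - e * a'), ?_⟩
      rw [Nat.succ_eq_add_one, pow_succ] at hab
      linear_combination (α') * hab - b * hα'
    rw [length_pair_pow a t (fun w hw => regular_of_prime h.prime_t hta w hw)]
    have e2 : Ideal.span {t, b} = Ideal.span {t, e * a} := by
      apply span_pair_congr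
      · refine Ideal.mem_span_pair.2 ⟨c * t ^ m, -α, ?_⟩
        rw [Nat.succ_eq_add_one, pow_succ] at hab
        linear_combination -hab
      · refine Ideal.mem_span_pair.2 ⟨α' * c * t ^ m, -α', ?_⟩
        rw [Nat.succ_eq_add_one, pow_succ] at hab
        linear_combination (-α') * hab + b * hα'
    have e3 : Module.length N (N ⧸ Ideal.span {t, b}) = 1 + Module.length N (N ⧸ Ideal.span {a, t}) := by
      rw [K855.Len.length_congr e2, length_e_ta h.symm, Set.pair_comm a t]
    rw [e3]
    push_cast
    ring

end

end K855.Calc
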