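import Mathlib.Algebra.Exact
import Mathlib.Algebra.Group.Hom.Defs
import Mathlib.Algebra.Group.Subgroup.Ker
import Mathlib.Algebra.Group.Equiv.Basic

/-! Diagram chase in the long exact sequence of an abstract blow-up square. -/

set_option autoImplicit false
universe u v

namespace K855.Chase

variable {A B C D : ℕ → Type u} [∀ p, AddCommGroup (A p)] [∀ p, AddCommGroup (B p)]
  [∀ p, AddCommGroup (C p)] [∀ p, AddCommGroup (D p)]
  (f : ∀ p, A p →+ B p) (g : ∀ p, A p →+ C p) (j : ∀ p, B p →+ D p) (π : ∀ p, C p →+ D p)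
  (δ : ∀ p, D p →+ A (p + 1))
  (hinj : Function.Injective (fun e : A 0 => (f 0 e, g 0 e)))
  (h1 : ∀ p, Function.Exact (fun e : A p => (f p e, g p e)) (fun uv : B p × C p => j p uv.1 - π p uv.2))
  (h2 : ∀ p, Function.Exact (fun uv : B p × C p => j p uv.1 - π p uv.2) (δ p))
  (h3 : ∀ p, Function.Exact (δ p) (fun e : A (p + 1) => (f (p + 1) e, g (p + 1) e)))

include h1 in
theorem surj_of_subsingleton (p : ℕ) (hD : Subsingleton (D p)) : Function.Surjective (f p) := by
  intro b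
  obtain ⟨a, ha⟩ := (h1 p (b, 0)).1 (Subsingleton.elim _ _)
  exact ⟨a, congrArg Prod.fst ha⟩

include h3 in
theorem inj_of_delta (p : ℕ) (hC : Subsingleton (C (p + 1))) (hδ : ∀ d, δ p d = 0) :
    Function.Injective (f (p + 1)) := by
  rw [injective_iff_map_eq_zero]
  intro a ha
  obtain ⟨d, rfl⟩ := (h3 p a).1 (Prod.ext ha (Subsingleton.elim _ _))
  exact hδ d

include h2 in
theorem delta_zero (hπ : Function.Surjective (π 0)) (d : D 0) : δ 0 d = 0 := by
  obtain ⟨c, rfl⟩ := hπ d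
  refine (h2 0 (π 0 c)).2 ⟨(0, -c), ?_⟩
  simp

include hinj h1 h2 h3 in
theorem main (hC : ∀ p, 1 ≤ p → Subsingleton (C p)) (hD1 : Subsingleton (D 1))
    (hD3 : ∀ p, 3 ≤ p → Subsingleton (D p)) (hA3 : ∀ p, 3 ≤ p → Subsingleton (A p))
    (hπ : Function.Bijective (π 0)) :
    (∀ i : ℕ, i ≠ 2 → Function.Bijective (f i)) ∧ Function.Injective (f 2) ∧
      Function.Surjective (j 2) ∧ (j 2).ker = (f 2).range := by
  refine ⟨fun i hi => ?_, ?_, ?_, ?_⟩
  · obtain rfl | rfl | h : i = 0 ∨ i = 1 ∨ 3 ≤ i := by omega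
    · constructor
      · rw [injective_iff_map_eq_zero]
        intro a ha
        apply hinj
        have h4 : j 0 (f 0 a) - π 0 (g 0 a) = 0 := (h1 0 _).2 ⟨a, rfl⟩
        rw [ha, map_zero, zero_sub, neg_eq_zero] at h4
        have h5 : g 0 a = 0 := hπ.1 (by rw [h4, map_zero])
        show (f 0 a, g 0 a) = (f 0 0, g 0 0)
        rw [ha, h5, map_zero, map_zero]
      · intro b
        obtain ⟨c, hc⟩ := hπ.2 (j 0 b)
        obtain ⟨a, ha⟩ := (h1 0 (b, c)).1 (by simp [hc])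
        exact ⟨a, congrArg Prod.fst ha⟩
    · exact ⟨inj_of_delta f g δ h3 0 (hC 1 le_rfl) (delta_zero j π δ h2 hπ.2),
        surj_of_subsingleton f g j π h1 1 hD1⟩
    · have := hA3 i h
      exact ⟨Function.injective_of_subsingleton _, surj_of_subsingleton f g j π h1 i (hD3 i h)⟩
  · refine inj_of_delta f g δ h3 1 (hC 2 (by omega)) fun d => ?_
    rw [Subsingleton.elim d 0, map_zero]
  · intro d
    have := hA3 3 le_rfl
    obtain ⟨⟨b, c⟩, hbc⟩ := (h2 2 d).1 (Subsingleton.elim _ _)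
    have := hC 2 (by omega)
    refine ⟨b, ?_⟩
    rw [← hbc, Subsingleton.elim c 0]
    simp
  · ext b
    have := hC 2 (by omega)
    rw [AddMonoidHom.mem_ker]
    constructor
    · intro hb
      obtain ⟨a, ha⟩ := (h1 2 (b, 0)).1 (by simp [hb])
      exact ⟨a, congrArg Prod.fst ha⟩
    · rintro ⟨a, rfl⟩
      have h4 : j 2 (f 2 a) - π 2 (g 2 a) = 0 := (h1 2 _).2 ⟨a, rfl⟩
      rwa [Subsingleton.elim (g 2 a) 0, map_zero, sub_zero] at h4

end K855.Chase
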