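import Groth.Agent.ArLef.K855.Node
import Mathlib.RingTheory.DiscreteValuationRing.Basic

/-! `B[[x,y]]/(xy - π)` over a discrete valuation ring: the structural facts, and abstract consequences. -/

set_option autoImplicit false
universe u

open IsLocalRing ArLef ArLef.NodeAlg

namespace K855.DVR

theorem isNoeth (B : Type u) [CommRing B] [IsNoetherianRing B] (a : B) : IsNoetherianRing (NodeAlg B a) := by
  have : IsNoetherianRing (MvPowerSeries (Fin 2) B) := MvPowerSeries.isNoetherianRing B
  exact isNoetherianRing_of_surjective _ _ (Ideal.Quotient.mk _) Ideal.Quotient.mk_surjective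

section Inst

variable (B : Type u) [CommRing B] [IsDomain B] [IsDiscreteValuationRing B] (π : B) (hπ : Irreducible π)

include hπ

theorem max_eq : maximalIdeal B = Ideal.span {π} := hπ.maximalIdeal_eq

theorem isLocal : IsLocalRing (NodeAlg B π) := K855.Node.isLocalRing_nodeAlg π (max_eq B π hπ)

theorem isPrime_span : (Ideal.span {π}).IsPrime := (K855.Node.isMaximal_span π (max_eq B π hπ)).isPrime

theorem isDomain : IsDomain (NodeAlg B π) := by
  have := isNoeth B π
  have := isLocal B π hπ
  have := isPrime_span B π hπ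
  exact K855.Node.isDomain_of_prime_regular (t π) (K855.Node.isPrime_span_t π)
    (fun x hx => K855.Node.t_regular π hπ.ne_zero x hx)

theorem nontriv : Nontrivial (B ⧸ Ideal.span {π}) :=
  Ideal.Quotient.nontrivial_iff.2 (isPrime_span B π hπ).ne_top

theorem e_not_dvd : ¬ (t π ∣ e π) := by
  have := nontriv B π hπ
  rw [← Ideal.mem_span_singleton]
  exact K855.Node.e_not_mem π

theorem t_not_dvd : ¬ (e π ∣ t π) := by
  have := nontriv B π hπ
  rw [← Ideal.mem_span_singleton]
  exact K855.Node.t_not_mem π

theorem t_ne_zero : t π ≠ 0 := by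
  intro h
  exact t_not_dvd B π hπ (by rw [h]; exact dvd_zero _)

theorem e_ne_zero : e π ≠ 0 := by
  intro h
  exact e_not_dvd B π hπ (by rw [h]; exact dvd_zero _)

theorem prime_t : Prime (t π) := by
  have := isPrime_span B π hπ
  rw [← Ideal.span_singleton_prime (t_ne_zero B π hπ)]
  exact K855.Node.isPrime_span_t π

theorem prime_e : Prime (e π) := by
  have := isPrime_span B π hπ
  rw [← Ideal.span_singleton_prime (e_ne_zero B π hπ)]
  exact K855.Node.isPrime_span_e π

theorem maxN_eq [IsLocalRing (NodeAlg B π)] : maximalIdeal (NodeAlg B π) = Ideal.span {t π, e π} :=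
  K855.Node.maximalIdeal_eq π (max_eq B π hπ)

end Inst

/-- The abstract regular node: what is used about `B[[x,y]]/(xy - π)`. -/
structure IsNode (N : Type u) [CommRing N] (t e : N) : Prop where
  noeth : IsNoetherianRing N
  dom : IsDomain N
  loc : IsLocalRing N
  max_eq : maximalIdeal N = Ideal.span {t, e}
  prime_t : Prime t
  prime_e : Prime e
  not_te : ¬ (t ∣ e)
  not_et : ¬ (e ∣ t)

theorem isNode (B : Type u) [CommRing B] [IsDomain B] [IsDiscreteValuationRing B] (π : B)
    (hπ : Irreducible π) : IsNode (NodeAlg B π) (t π) (e π) := by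
  have hl := isLocal B π hπ
  exact ⟨isNoeth B π, isDomain B π hπ, hl, maxN_eq B π hπ, prime_t B π hπ, prime_e B π hπ,
    e_not_dvd B π hπ, t_not_dvd B π hπ⟩

namespace IsNode

variable {N : Type u} [CommRing N] {t e : N} (h : IsNode N t e)

include h

theorem symm : IsNode N e t := by
  have := h.loc
  refine ⟨h.noeth, h.dom, h.loc, ?_, h.prime_e, h.prime_t, h.not_et, h.not_te⟩
  rw [h.max_eq, Set.pair_comm]

theorem t_mem [IsLocalRing N] : t ∈ maximalIdeal N := by
  rw [h.max_eq]; exact Ideal.subset_span (by simp)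

theorem e_mem [IsLocalRing N] : e ∈ maximalIdeal N := by
  rw [h.max_eq]; exact Ideal.subset_span (by simp)

/-- A factorisation `x y = unit * t e` with `x`, `y` non-units is the obvious one. -/
theorem factor [IsDomain N] {x y u : N} (hu : IsUnit u) (hx : ¬ IsUnit x) (hy : ¬ IsUnit y)
    (hxy : x * y = u * (t * e)) :
    (∃ α β : Nˣ, x = α * t ∧ y = β * e) ∨ (∃ α β : Nˣ, x = α * e ∧ y = β * t) := by
  have h1 : t ∣ x * y := ⟨u * e, by rw [hxy]; ring⟩
  rcases h.prime_t.dvd_or_dvd h1 with ⟨x', rfl⟩ | ⟨y', rfl⟩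
  · have h2 : x' * y = u * e := by
      apply mul_left_cancel₀ h.prime_t.ne_zero
      rw [← mul_assoc, hxy]; ring
    have h3 : e ∣ x' * y := ⟨u, by rw [h2]; ring⟩
    rcases h.prime_e.dvd_or_dvd h3 with ⟨x'', rfl⟩ | ⟨y', rfl⟩
    · exfalso
      apply hy
      have h4 : x'' * y = u := by
        apply mul_left_cancel₀ h.prime_e.ne_zero
        rw [← mul_assoc, h2]; ring
      exact isUnit_of_mul_isUnit_right (h4 ▸ hu)
    · have h4 : x' * y' = u := by
        apply mul_left_cancel₀ h.prime_e.ne_zero
        calc e * (x' * y') = x' * (e * y') := by ring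
          _ = _ := by rw [h2]; ring
      left
      refine ⟨(isUnit_of_mul_isUnit_left (h4 ▸ hu)).unit, (isUnit_of_mul_isUnit_right (h4 ▸ hu)).unit, ?_, ?_⟩
      · rw [IsUnit.unit_spec]; ring
      · rw [IsUnit.unit_spec]; ring
  · have h2 : x * y' = u * e := by
      apply mul_left_cancel₀ h.prime_t.ne_zero
      calc t * (x * y') = x * (t * y') := by ring
        _ = _ := by rw [hxy]; ring
    have h3 : e ∣ x * y' := ⟨u, by rw [h2]; ring⟩
    rcases h.prime_e.dvd_or_dvd h3 with ⟨x', rfl⟩ | ⟨y'', rfl⟩
    · have h4 : x' * y' = u := by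
        apply mul_left_cancel₀ h.prime_e.ne_zero
        rw [← mul_assoc, h2]; ring
      right
      refine ⟨(isUnit_of_mul_isUnit_left (h4 ▸ hu)).unit, (isUnit_of_mul_isUnit_right (h4 ▸ hu)).unit, ?_, ?_⟩
      · rw [IsUnit.unit_spec]; ring
      · rw [IsUnit.unit_spec]; ring
    · exfalso
      apply hx
      have h4 : x * y'' = u := by
        apply mul_left_cancel₀ h.prime_e.ne_zero
        calc e * (x * y'') = x * (e * y'') := by ring
          _ = _ := by rw [h2]; ring
      exact isUnit_of_mul_isUnit_left (h4 ▸ hu)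

end IsNode

end K855.DVR
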