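import Groth.Agent.Sga7.H77.HSigma
import Groth.Agent.Etrest.ConstBasic

/-! Etale cohomology of a finite disjoint union of open pieces. -/

set_option autoImplicit false
universe u

open CategoryTheory CategoryTheory.Limits AlgebraicGeometry

namespace K855.Pieces

open Groth.Agent Groth.Agent.Sga7.H77.HSigma

theorem H_fin {E : Scheme.{u}} {m : ℕ} {P : Fin m → Scheme.{u}} (a : ∀ i, P i ⟶ E)
    (ha : ∀ i, IsOpenImmersion (a i)) (hd : ∀ i j (x : P i) (y : P j), a i x = a j y → i = j)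
    (hs : ∀ e : E, ∃ i, ∃ y : P i, a i y = e) (M : Type) [AddCommGroup M] (q : ℕ) :
    Nonempty (EtCoh.H E (EtCoh.const E M) q ≃+ ∀ i, EtCoh.H (P i) (EtCoh.const (P i) M) q) := by
  let V : Fin m → E.Etale := fun i => Scheme.Etale.mk (a i)
  let f : ∀ i, V i ⟶ EtCoh.top E := fun i => (Etbase.ExactSections.topIsTerminal E).from (V i)
  have hfl : ∀ i, (f i).left = a i := fun i => by
    have h := MorphismProperty.Over.w (f i)
    exact (Category.comp_id _).symm.trans h
  refine nonempty_H_pi V f ?_ ?_ ?_ (Etbase.ExactSections.topIsTerminal E) M q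
  · intro i
    rw [hfl]
    exact (inferInstance : Mono (a i))
  · intro i j x y h
    rw [hfl, hfl] at h
    exact hd i j x y h
  · intro x
    obtain ⟨i, y, hy⟩ := hs x
    refine ⟨i, y, ?_⟩
    rw [hfl]
    exact hy

theorem H_finite {E : Scheme.{u}} {ι : Type*} [Finite ι] {P : ι → Scheme.{u}} (a : ∀ i, P i ⟶ E)
    (ha : ∀ i, IsOpenImmersion (a i)) (hd : ∀ i j (x : P i) (y : P j), a i x = a j y → i = j)
    (hs : ∀ e : E, ∃ i, ∃ y : P i, a i y = e) (M : Type) [AddCommGroup M] (q : ℕ) :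
    Nonempty (EtCoh.H E (EtCoh.const E M) q ≃+ ∀ i, EtCoh.H (P i) (EtCoh.const (P i) M) q) := by
  obtain ⟨m, ⟨e⟩⟩ := Finite.exists_equiv_fin ι
  obtain ⟨φ⟩ := H_fin (fun i : Fin m => a (e.symm i)) (fun i => ha _)
    (fun i j x y h => e.symm.injective (hd _ _ x y h))
    (fun z => by
      obtain ⟨i, y, hy⟩ := hs z
      obtain ⟨j, rfl⟩ := e.symm.surjective i
      exact ⟨j, y, hy⟩) M q
  let ψ : (∀ i, EtCoh.H (P i) (EtCoh.const (P i) M) q) ≃+
      ∀ j : Fin m, EtCoh.H (P (e.symm j)) (EtCoh.const (P (e.symm j)) M) q :=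
    { Equiv.piCongrLeft' (fun i => EtCoh.H (P i) (EtCoh.const (P i) M) q) e with
      map_add' := fun _ _ => rfl }
  exact ⟨φ.trans ψ.symm⟩

theorem isTorsion_const (X : Scheme.{u}) (n : ℕ) (hn : 0 < n) :
    EtCoh.IsTorsion (EtCoh.const X (ZMod n)) :=
  Etrest.ConstBasic.isTorsion_of_killedBy hn
    (Etrest.ConstBasic.killedBy_const X (ZMod n) n fun m => by
      rw [nsmul_eq_mul, ZMod.natCast_self, zero_mul])

end K855.Pieces
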