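import Groth.Agent.S3095
import Groth.Agent.S10830
import Groth.Agent.CurvesA.CurveCdField
import Groth.Agent.CurvesA.CurveCdK
import Groth.Agent.EtpbcB.HRel
import Groth.Agent.Dix.RegSurfLoc979
import Groth.Agent.Dix.SurfBasic
import Groth.Agent.ArLef.K855.Pieces

/-! Vanishing of the etale cohomology of an arithmetic surface over a complete discrete valuation ring. -/

set_option autoImplicit false
universe u

open CategoryTheory CategoryTheory.Limits AlgebraicGeometry

namespace K855.Van

open Groth.Agent IsLocalRing

theorem henselian (A : Type u) [CommRing A] [IsLocalRing A] [IsAdicComplete (maximalIdeal A) A] :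
    HenselianLocalRing A where
  is_henselian := fun f hf a₀ h₁ h₂ =>
    HenselianRing.is_henselian (I := IsLocalRing.maximalIdeal A) f hf a₀ h₁ (h₂.map _)

variable {R : Type u} [CommRing R] [IsDomain R] [IsDiscreteValuationRing R]

theorem isRegSurf {X : Over (Spec (CommRingCat.of R))} (hX : ArSurf.IsArithSurface R X) :
    Dix.MinusCurve.IsRegSurf R X :=
  ⟨hX.1, hX.2.1, hX.2.2.1, hX.2.2.2.1, Dix.SurfBasic.isProper hX⟩

/-- The closed fibre has dimension at most one. -/
theorem dim_closedFibre {X : Over (Spec (CommRingCat.of R))} (hX : ArSurf.IsArithSurface R X) :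
    topologicalKrullDim ↥(pullback X.hom (Spec.map (CommRingCat.ofHom (residue R)))) ≤ 1 := by
  have := hX.2.1
  have := hX.2.2.2.1
  have := Dix.SurfBasic.isProper hX
  have hcl : IsClosedImmersion (Spec.map (CommRingCat.ofHom (residue R))) :=
    IsClosedImmersion.spec_of_surjective _ residue_surjective
  have hcl' : IsClosedImmersion (pullback.fst X.hom (Spec.map (CommRingCat.ofHom (residue R)))) := inferInstance
  have hemb := (pullback.fst X.hom (Spec.map (CommRingCat.ofHom (residue R)))).isClosedEmbedding
  have hY : Set.range (pullback.fst X.hom (Spec.map (CommRingCat.ofHom (residue R)))) ≠ Set.univ := by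
    intro h
    obtain ⟨z, hz⟩ := h.symm ▸ Set.mem_univ (genericPoint X.left)
    have h1 := congrArg (fun k => k z) (pullback.condition (f := X.hom)
      (g := Spec.map (CommRingCat.ofHom (residue R))))
    dsimp only at h1
    rw [Scheme.Hom.comp_apply, Scheme.Hom.comp_apply, hz] at h1
    have h2 : (X.hom (genericPoint X.left)).asIdeal = maximalIdeal R := by
      rw [h1]
      exact congrArg PrimeSpectrum.asIdeal (IsLocalRing.PrimeSpectrum.comap_residue R _)
    have h3 : (X.hom (genericPoint X.left)).asIdeal = ⊥ := Dix.GenFibre.asIdeal_hom_genericPoint X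
    exact IsDiscreteValuationRing.not_a_field R (h2.symm.trans h3)
  have hdim : topologicalKrullDim X.left = 2 := hX.2.2.1
  have h1 := S10830.result X.left (by rw [hdim]; decide) _ hemb.isClosed_range hY
  have h2 : topologicalKrullDim ↥(pullback X.hom (Spec.map (CommRingCat.ofHom (residue R)))) ≤
      topologicalKrullDim (Set.range (pullback.fst X.hom (Spec.map (CommRingCat.ofHom (residue R))))) :=
    (hemb.isEmbedding.toHomeomorph).isHomeomorph.topologicalKrullDim_eq.le
  rw [hdim] at h1
  exact Dix.RegSurfLoc979.le_one_of_lt_two _ (h2.trans_lt h1)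

theorem subsingleton_H [IsAdicComplete (maximalIdeal R) R] [IsAlgClosed (ResidueField R)]
    (X : Over (Spec (CommRingCat.of R))) (hX : ArSurf.IsArithSurface R X) (n : ℕ) (hn : n ≠ 0)
    (p : ℕ) (hp : 3 ≤ p) : Subsingleton (EtCoh.H X.left (EtCoh.const X.left (ZMod n)) p) := by
  have := Dix.SurfBasic.isProper hX
  have := henselian R
  have h1 := S3095.result R X.left X.hom (EtCoh.const X.left (ZMod n))
    (K855.Pieces.isTorsion_const _ n (Nat.pos_of_ne_zero hn)) p
  have h2 := CurvesA.CurveCdK.van_of_field CurvesA.CurveCdField.hfield (ResidueField R)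
    (pullback X.hom (Spec.map (CommRingCat.ofHom (residue R)))) (pullback.snd _ _) (dim_closedFibre hX)
    (EtCoh.const _ (ZMod n)) (K855.Pieces.isTorsion_const _ n (Nat.pos_of_ne_zero hn)) p hp
  have h3 : Subsingleton (EtCoh.H (pullback X.hom (Spec.map (CommRingCat.ofHom (residue R))))
      ((EtCoh.pull (pullback.fst X.hom (Spec.map (CommRingCat.ofHom (residue R))))).obj
        (EtCoh.const X.left (ZMod n))) p) :=
    (Etrest.IsoInv.HCongr (EtCore.pullConst (pullback.fst X.hom (Spec.map (CommRingCat.ofHom (residue R)))) (ZMod n))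
      p).toEquiv.subsingleton
  exact h1.1.subsingleton

end K855.Van
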