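import Groth.Agent.ArLef.K855.Blow
import Groth.Agent.ArLef.K855.Pieces
import Groth.Agent.ArLef.K855.Van
import Groth.Agent.Etrest.HpullConst
import Groth.Agent.Etrest.SHPoint

/-! Etale cohomology of the exceptional fibre of the blow-up of finitely many closed points. -/

set_option autoImplicit false
universe u

open CategoryTheory CategoryTheory.Limits AlgebraicGeometry

namespace K855.ExcCoh

open Groth.Agent IsLocalRing K855.Blow

section Conn

open Groth.Agent.Etrest.HpullConst

theorem isIso_unit_top (X : Scheme.{u}) [PreconnectedSpace X] [Nonempty X] (M : Type)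
    [AddCommGroup M] : IsIso ((constantSheafAdj X.smallEtaleTopology AddCommGrpCat.{u + 1}
      (EtCore.topIsTerminal X)).unit.app (AddCommGrpCat.of (ULift.{u + 1} M))) :=
  (isIso_unit_iff X (ULift.{u + 1} M) (EtCore.topIsTerminal X)).2
    (bijective_const (T := X) (ULift.{u + 1} M))

theorem bijective_Hpull_zero {X Y : Scheme.{u}} (f : X ⟶ Y) [PreservesFiniteLimits (EtCoh.pull f)]
    [PreconnectedSpace X] [Nonempty X]
    [PreconnectedSpace Y] [Nonempty Y] (M : Type) [AddCommGroup M] :
    Function.Bijective (EtCore.Hpull f (EtCoh.const Y M) 0) :=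
  bijective_Hpull_zero_const f (AddCommGrpCat.of (ULift.{u + 1} M))
    (constU_map_bijective X _ _ (EtCore.topIsTerminal X) (isIso_unit_top X M))
    (constU_map_bijective Y _ _ (EtCore.topIsTerminal Y) (isIso_unit_top Y M))

end Conn

section Residue

theorem map_eq_closedPoint {R : Type u} [CommRing R] [IsLocalRing R] {X : Scheme.{u}}
    (f : X ⟶ Spec (CommRingCat.of R)) [IsProper f] (x : X) (hx : IsClosed ({x} : Set X)) :
    f x = closedPoint R := by
  have h1 : IsClosed (f '' {x}) := f.isClosedMap _ hx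
  rw [Set.image_singleton] at h1
  have h2 : closedPoint R ∈ ({f x} : Set (Spec (CommRingCat.of R))) :=
    (IsLocalRing.specializes_closedPoint (f x)).mem_closed h1 rfl
  exact h2.symm

theorem residue_facts {R : Type u} [CommRing R] [IsLocalRing R] [IsAlgClosed (ResidueField R)]
    {X : Scheme.{u}} (f : X ⟶ Spec (CommRingCat.of R)) [LocallyOfFiniteType f] (x : X)
    (hx : IsClosed ({x} : Set X)) (hfx : f x = closedPoint R) (n : ℕ) (hnR : IsUnit ((n : ℕ) : R)) :
    IsSepClosed (X.residueField x) ∧ ((n : ℕ) : X.residueField x) ≠ 0 := by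
  have h1 : IsClosedImmersion (X.fromSpecResidueField x) :=
    isClosed_singleton_iff_isClosedImmersion.1 hx
  let φ : CommRingCat.of R ⟶ X.residueField x := Spec.preimage (X.fromSpecResidueField x ≫ f)
  have hφ : Spec.map φ = X.fromSpecResidueField x ≫ f := Spec.map_preimage _
  have h2 : LocallyOfFiniteType (Spec.map φ) := by
    rw [hφ]
    infer_instance
  have h3 : φ.hom.FiniteType := by
    rwa [HasRingHomProperty.Spec_iff (P := @LocallyOfFiniteType)] at h2
  have h4 : ∀ r ∈ maximalIdeal R, φ.hom r = 0 := by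
    intro r hr
    let c : Spec (X.residueField x) := closedPoint (X.residueField x)
    have h5 : (Spec.map φ) c = closedPoint R := by
      rw [hφ, Scheme.Hom.comp_apply, Scheme.fromSpecResidueField_apply, hfx]
    have h6 : r ∈ ((Spec.map φ) c).asIdeal := by
      rw [h5]
      exact hr
    have h7 : φ.hom r ∈ maximalIdeal (X.residueField x) := h6
    by_contra hne
    exact (mem_maximalIdeal _).1 h7 (isUnit_iff_ne_zero.2 hne)
  let ψ : ResidueField R →+* X.residueField x := Ideal.Quotient.lift (maximalIdeal R) φ.hom h4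
  have h8 : ψ.comp (residue R) = φ.hom := by
    ext r
    rfl
  have h9 : ψ.FiniteType := by
    apply RingHom.FiniteType.of_comp_finiteType (f := residue R)
    rw [h8]
    exact h3
  have h10 : ψ.Finite := by
    let _ := ψ.toAlgebra
    have : Algebra.FiniteType (ResidueField R) (X.residueField x) := h9
    exact finite_of_finite_type_of_isJacobsonRing (ResidueField R) (X.residueField x)
  have h11 : Function.Bijective ψ :=
    IsAlgClosed.ringHom_bijective_of_isIntegral ψ h10.to_isIntegral
  have h12 : IsAlgClosed (X.residueField x) :=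
    IsAlgClosed.of_ringEquiv (ResidueField R) (X.residueField x) (RingEquiv.ofBijective ψ h11)
  refine ⟨inferInstance, ?_⟩
  have h13 := hnR.map φ.hom
  rw [map_natCast] at h13
  exact h13.ne_zero

end Residue

section Exc

variable {X : Scheme.{u}} [IsLocallyNoetherian X] (F : Finset X) (hF : IsClosed (F : Set X))
  (hFc : ∀ x ∈ F, IsClosed ({x} : Set X))

/-- the reduced ideal of the centre -/
noncomputable abbrev I : X.IdealSheafData :=
  Scheme.IdealSheafData.vanishingIdeal (⟨(F : Set X), hF⟩ : TopologicalSpace.Closeds X)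

omit [IsLocallyNoetherian X] in
lemma ι_mem (z : (I F hF).subscheme) : (I F hF).subschemeι z ∈ F := by
  have h1 : (I F hF).subschemeι z ∈ Set.range (I F hF).subschemeι := ⟨z, rfl⟩
  rw [Scheme.IdealSheafData.range_subschemeι, Scheme.IdealSheafData.coe_support_vanishingIdeal] at h1
  exact h1

variable {X' : Scheme.{u}} (q : X' ⟶ X) (hq : BlowUp.IsBlowUp q (I F hF))
  (hreg : ∀ x ∈ F, IsRegularLocalRing (X.presheaf.stalk x))
  (hdim : ∀ x ∈ F, ringKrullDim (X.presheaf.stalk x) = 2)

omit [IsLocallyNoetherian X] in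
lemma ρ_mem (e : ↥(pullback q (I F hF).subschemeι)) : (pullback.fst q (I F hF).subschemeι ≫ q) e ∈ F := by
  rw [pullback.condition, Scheme.Hom.comp_apply]
  exact ι_mem F hF _

include hq hreg hdim in
theorem H_exc (M : Type) [AddCommGroup M] (p : ℕ) :
    Nonempty (EtCoh.H (pullback q (I F hF).subschemeι) (EtCoh.const (pullback q (I F hF).subschemeι) M) p ≃+
      ∀ x : F, EtCoh.H (CohB1.ProjSpace 1 (kap F hFc x)) (EtCoh.const (CohB1.ProjSpace 1 (kap F hFc x)) M) p) := by
  have key := fun x : F => have := hreg x x.2; exists_excPiece F hFc hF q hq x.2 (hdim x x.2)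
  choose a ha hr using key
  refine K855.Pieces.H_finite a ha ?_ ?_ M p
  · intro x y u v huv
    have h1 : a x u ∈ Set.range (a x) := ⟨u, rfl⟩
    have h2 : a x u ∈ Set.range (a y) := ⟨v, huv.symm⟩
    rw [hr] at h1 h2
    have h3 := eq_of_mem_nb F hFc (ρ_mem F hF q (a x u)) h1
    have h4 := eq_of_mem_nb F hFc (ρ_mem F hF q (a x u)) h2
    exact Subtype.ext (h3.symm.trans h4)
  · intro e
    refine ⟨⟨_, ρ_mem F hF q e⟩, ?_⟩
    have h1 : e ∈ Set.range (a ⟨_, ρ_mem F hF q e⟩) := by
      rw [hr]
      exact mem_nb F hFc _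
    exact h1

theorem H_ctr (M : Type) [AddCommGroup M] (p : ℕ) :
    Nonempty (EtCoh.H (I F hF).subscheme (EtCoh.const (I F hF).subscheme M) p ≃+
      ∀ x : F, EtCoh.H (Spec ((nb F hFc x : Scheme.{u}).residueField (npt F hFc x)))
        (EtCoh.const (Spec ((nb F hFc x : Scheme.{u}).residueField (npt F hFc x))) M) p) := by
  have key := fun x : F => exists_ctrPiece F hFc hF x.2
  choose a ha hr using key
  refine K855.Pieces.H_finite a ha ?_ ?_ M p
  · intro x y u v huv
    have h1 : a x u ∈ Set.range (a x) := ⟨u, rfl⟩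
    have h2 : a x u ∈ Set.range (a y) := ⟨v, huv.symm⟩
    rw [hr] at h1 h2
    have h3 := eq_of_mem_nb F hFc (ι_mem F hF (a x u)) h1
    have h4 := eq_of_mem_nb F hFc (ι_mem F hF (a x u)) h2
    exact Subtype.ext (h3.symm.trans h4)
  · intro e
    refine ⟨⟨_, ι_mem F hF e⟩, ?_⟩
    have h1 : e ∈ Set.range (a ⟨_, ι_mem F hF e⟩) := by
      rw [hr]
      exact mem_nb F hFc _
    exact h1

end Exc

end K855.ExcCoh
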