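import Groth.Prelude.Def_W4c2arithlefschetzGraph
import Mathlib.LinearAlgebra.Matrix.ToLinearEquiv
import Mathlib.Tactic.LinearCombination
import Mathlib.Tactic.Ring
import Mathlib.Tactic.Linarith

/-! The intersection matrix of iterated point blow-ups is `-(1-P)(1-P)ᵀ`, and the total-transform matrix
is the inverse of `1-P`. -/

set_option autoImplicit false

namespace K855.Graph

open ArLef ArLef.BlowupGraph

variable {n : ℕ} (G : BlowupGraph n)

/-- `P p m = 1` when `E_p` passes through the `m`-th centre. -/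
def pm : Matrix (Fin n) (Fin n) ℚ := fun p m => if p ∈ G.par m then 1 else 0

/-- total transforms -/
def tm : Matrix (Fin n) (Fin n) ℚ := fun k m => (G.tt k m : ℚ)

theorem ttN_eq (k m : ℕ) : G.ttN k m = if m < k then 0 else if m = k then 1 else
      ∑ p ∈ G.parN m, G.ttN k p := by
  rw [BlowupGraph.ttN]
  split_ifs with h1 h2
  · rfl
  · rfl
  · exact Finset.sum_attach (G.parN m) (fun p => G.ttN k p)

theorem ttN_of_lt {k m : ℕ} (h : m < k) : G.ttN k m = 0 := by
  rw [ttN_eq, if_pos h]

theorem sum_parN (k : ℕ) (m : Fin n) :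
    ∑ p ∈ G.parN m, G.ttN k p = ∑ p ∈ G.par m, G.ttN k p := by
  have h : G.parN m = (G.par m).map Fin.valEmbedding := by
    unfold BlowupGraph.parN
    rw [dif_pos m.2]
  rw [h, Finset.sum_map]
  rfl

theorem tt_rec (k m : Fin n) : G.tt k m = (if k = m then 1 else 0) + ∑ p ∈ G.par m, G.tt k p := by
  unfold BlowupGraph.tt
  rcases lt_trichotomy m.1 k.1 with h | h | h
  · rw [ttN_of_lt G h, if_neg (by intro e; rw [e] at h; exact lt_irrefl _ h), Finset.sum_eq_zero, zero_add]
    intro p hp
    exact ttN_of_lt G (lt_trans (G.par_lt m p hp) h)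
  · have hk : k = m := Fin.ext h.symm
    subst hk
    rw [ttN_eq, if_neg (lt_irrefl _), if_pos rfl, if_pos rfl, Finset.sum_eq_zero, add_zero]
    intro p hp
    exact ttN_of_lt G (G.par_lt k p hp)
  · rw [ttN_eq, if_neg (not_lt.2 h.le), if_neg h.ne', if_neg (by intro e; rw [e] at h; exact lt_irrefl _ h),
      zero_add, sum_parN]

theorem tm_mul : tm G * (1 - pm G) = 1 := by
  ext k m
  rw [mul_sub, mul_one, Matrix.sub_apply, Matrix.mul_apply, Matrix.one_apply]
  unfold tm pm
  rw [tt_rec]
  push_cast
  have : ∑ j : Fin n, (G.tt k j : ℚ) * (if j ∈ G.par m then 1 else 0) = ∑ p ∈ G.par m, (G.tt k p : ℚ) := by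
    simp [Finset.sum_ite_mem]
  rw [this]
  ring

theorem mul_tm : (1 - pm G) * tm G = 1 := mul_eq_one_comm.1 (tm_mul G)

theorem not_mem_self (p : Fin n) : p ∉ G.par p := fun h => lt_irrefl _ (G.par_lt p p h)

theorem par_eq_pair {m p q : Fin n} (hp : p ∈ G.par m) (hq : q ∈ G.par m) (hpq : p ≠ q) :
    G.par m = {p, q} := by
  symm
  apply Finset.eq_of_subset_of_card_le
  · intro x hx
    rcases Finset.mem_insert.1 hx with rfl | hx
    · exact hp
    · rw [Finset.mem_singleton.1 hx]; exact hq
  · rw [Finset.card_pair hpq]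
    exact G.card_le_two m

theorem card_both_eq (p q : Fin n) (hpq : p < q) :
    ((Finset.univ.filter fun m => p ∈ G.par m ∧ q ∈ G.par m).card : ℚ) =
      (if p ∈ G.par q then 1 else 0) - (if G.Adj p q then 1 else 0) := by
  have hqp : q ∉ G.par p := fun h => lt_asymm hpq (G.par_lt p q h)
  by_cases hpar : p ∈ G.par q
  · by_cases hA : G.Adj p q
    · have h0 : (Finset.univ.filter fun m => p ∈ G.par m ∧ q ∈ G.par m) = ∅ := by
        rw [Finset.filter_eq_empty_iff]
        intro m _ hm
        rcases hA with ⟨_, hA⟩ | ⟨hA, _⟩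
        · exact hA m (G.par_lt m q hm.2) (par_eq_pair G hm.1 hm.2 hpq.ne)
        · exact hqp hA
      rw [h0, if_pos hpar, if_pos hA]; simp
    · have h1 : ∃ m, q < m ∧ G.par m = {p, q} := by
        by_contra hcon
        push Not at hcon
        exact hA (Or.inl ⟨hpar, hcon⟩)
      obtain ⟨m, hqm, hm⟩ := h1
      have h0 : (Finset.univ.filter fun m => p ∈ G.par m ∧ q ∈ G.par m) = {m} := by
        ext m'
        simp only [Finset.mem_filter, Finset.mem_univ, true_and, Finset.mem_singleton]
        constructor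
        · rintro ⟨h1, h2⟩
          have hpm : p ∈ G.par m := by rw [hm]; simp
          have hqm' : q ∈ G.par m := by rw [hm]; simp
          have hm' := par_eq_pair G h1 h2 hpq.ne
          rcases lt_trichotomy m m' with h | h | h
          · exact absurd hm ((G.meet_of_two m' p q h1 h2 hpq).2 m hqm h)
          · exact h.symm
          · exact absurd hm' ((G.meet_of_two m p q hpm hqm' hpq).2 m' (G.par_lt m' q h2) h)
        · rintro rfl
          rw [hm]; simp
      rw [h0, if_pos hpar, if_neg hA]; simp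
  · have hA : ¬ G.Adj p q := by
      rintro (⟨hA, _⟩ | ⟨hA, _⟩)
      · exact hpar hA
      · exact hqp hA
    have h0 : (Finset.univ.filter fun m => p ∈ G.par m ∧ q ∈ G.par m) = ∅ := by
      rw [Finset.filter_eq_empty_iff]
      intro m _ hm
      exact hpar (G.meet_of_two m p q hm.1 hm.2 hpq).1
    rw [h0, if_neg hpar, if_neg hA]; simp

theorem adj_symm (p q : Fin n) : G.Adj p q ↔ G.Adj q p := by
  unfold BlowupGraph.Adj
  exact or_comm

theorem mul_transpose_apply (p q : Fin n) :
    ((1 - pm G) * (1 - pm G).transpose) p q = (if p = q then 1 else 0) - (if q ∈ G.par p then 1 else 0)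
      - (if p ∈ G.par q then 1 else 0) +
      ((Finset.univ.filter fun m => p ∈ G.par m ∧ q ∈ G.par m).card : ℚ) := by
  rw [Matrix.transpose_sub, Matrix.transpose_one, mul_sub, mul_one, sub_mul, one_mul, Matrix.sub_apply,
    Matrix.sub_apply, Matrix.sub_apply, Matrix.one_apply, Matrix.transpose_apply, Matrix.mul_apply]
  have : ∑ j : Fin n, pm G p j * (pm G).transpose j q =
      ((Finset.univ.filter fun m => p ∈ G.par m ∧ q ∈ G.par m).card : ℚ) := by
    rw [Finset.card_filter]
    push_cast
    apply Finset.sum_congr rfl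
    intro m _
    rw [Matrix.transpose_apply]
    unfold pm
    by_cases h1 : p ∈ G.par m <;> by_cases h2 : q ∈ G.par m <;> simp [h1, h2]
  rw [this]
  unfold pm
  ring

theorem mat_eq : G.mat = -((1 - pm G) * (1 - pm G).transpose) := by
  ext p q
  rw [Matrix.neg_apply, mul_transpose_apply]
  unfold BlowupGraph.mat
  rcases lt_trichotomy p q with h | h | h
  · have hqp : q ∉ G.par p := fun h' => lt_asymm h (G.par_lt p q h')
    rw [if_neg h.ne, if_neg h.ne, if_neg hqp, card_both_eq G p q h]
    ring
  · subst h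
    rw [if_pos rfl, if_pos rfl, if_neg (not_mem_self G p)]
    unfold BlowupGraph.selfInt
    push_cast
    simp only [and_self]
    ring
  · have hqp : p ∉ G.par q := fun h' => lt_asymm h (G.par_lt q p h')
    have h2 := card_both_eq G q p h
    have h3 : (Finset.univ.filter fun m => p ∈ G.par m ∧ q ∈ G.par m) =
        (Finset.univ.filter fun m => q ∈ G.par m ∧ p ∈ G.par m) := by
      ext m; simp [and_comm]
    have h4 : (if G.Adj p q then (1:ℚ) else 0) = if G.Adj q p then 1 else 0 := by
      by_cases hA : G.Adj p q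
      · rw [if_pos hA, if_pos ((adj_symm G p q).1 hA)]
      · rw [if_neg hA, if_neg (fun h' => hA ((adj_symm G p q).2 h'))]
    rw [if_neg h.ne', if_neg h.ne', if_neg hqp, h3, h2, h4]
    ring

/-- the multiplicity matrix -/
def mu : Matrix (Fin n) (Fin n) ℚ := fun i j => (G.mult i j : ℚ)

theorem mu_eq : mu G = (tm G).transpose * tm G := by
  ext i j
  rw [Matrix.mul_apply]
  unfold mu BlowupGraph.mult tm
  push_cast
  rfl

theorem mat_mul_mu : G.mat * mu G = -1 := by
  rw [mat_eq, mu_eq, neg_mul]
  congr 1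
  calc (1 - pm G) * (1 - pm G).transpose * ((tm G).transpose * tm G)
      = (1 - pm G) * ((1 - pm G).transpose * (tm G).transpose) * tm G := by
        simp only [Matrix.mul_assoc]
    _ = (1 - pm G) * (tm G * (1 - pm G)).transpose * tm G := by rw [Matrix.transpose_mul]
    _ = 1 := by rw [tm_mul, Matrix.transpose_one, mul_one, mul_tm]

theorem mu_symm (i j : Fin n) : mu G i j = mu G j i := by
  unfold mu BlowupGraph.mult
  congr 1
  apply Finset.sum_congr rfl
  intro k _
  ring

theorem det_ne_zero (I : Finset (Fin n)) :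
    (G.mat.submatrix (fun x : I => x.1) (fun x : I => x.1)).det ≠ 0 := by
  classical
  intro hdet
  obtain ⟨v, hv, hMv⟩ := Matrix.exists_mulVec_eq_zero_iff.2 hdet
  apply hv
  -- extend by zero
  let w : Fin n → ℚ := fun i => if h : i ∈ I then v ⟨i, h⟩ else 0
  have hw : ∀ f : Fin n → ℚ, ∑ i, f i * w i = ∑ a : I, f a.1 * v a := by
    intro f
    rw [← Finset.sum_subset (Finset.subset_univ I), ← Finset.sum_attach I]
    · apply Finset.sum_congr rfl
      intro a _
      simp only [w]
      rw [dif_pos a.2]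
    · intro i _ hi
      simp only [w]
      rw [dif_neg hi, mul_zero]
  have h1 : ∑ i, w i * (G.mat.mulVec w) i = 0 := by
    have : ∑ i, w i * (G.mat.mulVec w) i = ∑ i, (G.mat.mulVec w) i * w i := by
      apply Finset.sum_congr rfl; intro i _; ring
    rw [this, hw]
    apply Finset.sum_eq_zero
    intro a _
    have h2 : (G.mat.mulVec w) a.1 = ((G.mat.submatrix (fun x : I => x.1) (fun x : I => x.1)).mulVec v) a := by
      rw [Matrix.mulVec, Matrix.mulVec, dotProduct, dotProduct, hw]
      rfl
    rw [h2, hMv]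
    simp
  have h3 : ∑ i, w i * (G.mat.mulVec w) i = -∑ m, ((1 - pm G).transpose.mulVec w m) ^ 2 := by
    have e1 : G.mat.mulVec w = -((1 - pm G).mulVec ((1 - pm G).transpose.mulVec w)) := by
      rw [mat_eq, Matrix.neg_mulVec, Matrix.mulVec_mulVec]
    have e2 : ∑ i, w i * (G.mat.mulVec w) i = w ⬝ᵥ (G.mat.mulVec w) := rfl
    rw [e2, e1, dotProduct_neg, Matrix.dotProduct_mulVec, ← Matrix.mulVec_transpose]
    congr 1
    rw [dotProduct]
    apply Finset.sum_congr rfl
    intro m _
    ring
  rw [h1] at h3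
  have h4 : ∑ m, ((1 - pm G).transpose.mulVec w m) ^ 2 = 0 := by linarith
  have h5 : (1 - pm G).transpose.mulVec w = 0 := by
    funext m
    have := (Finset.sum_eq_zero_iff_of_nonneg (fun i _ => sq_nonneg ((1 - pm G).transpose.mulVec w i))).1 h4 m
      (Finset.mem_univ m)
    simpa using this
  have h6 : w = 0 := by
    have e : (tm G).transpose.mulVec ((1 - pm G).transpose.mulVec w) = w := by
      rw [Matrix.mulVec_mulVec, ← Matrix.transpose_mul, mul_tm, Matrix.transpose_one, Matrix.one_mulVec]
    rw [← e, h5, Matrix.mulVec_zero]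
  funext a
  have := congrFun h6 a.1
  simp only [w] at this
  rw [dif_pos a.2] at this
  exact this

theorem pairing_mem (I : Finset (Fin n)) (i j : Fin n) (hj : j ∈ I) : G.pairing I i j = 0 := by
  unfold BlowupGraph.pairing
  set K := G.mat.submatrix (fun x : I => x.1) (fun x : I => x.1) with hK
  have hunit : IsUnit K.det := isUnit_iff_ne_zero.2 (det_ne_zero G I)
  have h1 : ∀ a : I, ∑ b : I, G.mat i a.1 * K⁻¹ a b * G.mat b.1 j = G.mat i a.1 * (if a = ⟨j, hj⟩ then 1 else 0) := by
    intro a
    have h2 : ∑ b : I, K⁻¹ a b * K b ⟨j, hj⟩ = if a = ⟨j, hj⟩ then 1 else 0 := by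
      have := congrFun (congrFun (Matrix.nonsing_inv_mul K hunit) a) ⟨j, hj⟩
      rw [Matrix.mul_apply, Matrix.one_apply] at this
      exact this
    rw [← h2, Finset.mul_sum]
    apply Finset.sum_congr rfl
    intro b _
    have : K b ⟨j, hj⟩ = G.mat b.1 j := rfl
    rw [this]
    ring
  rw [Finset.sum_congr rfl (fun a _ => h1 a)]
  simp

theorem mat_mul_mu_apply (i l : Fin n) : ∑ j, G.mat i j * mu G j l = -(if i = l then 1 else 0) := by
  have := congrFun (congrFun (mat_mul_mu G) i) l
  rw [Matrix.mul_apply, Matrix.neg_apply, Matrix.one_apply] at this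
  exact this

theorem pairing_mul_mu (I : Finset (Fin n)) (i l : Fin n) (hl : l ∉ I) :
    ∑ j ∈ Finset.univ.filter (fun j => j ∉ I), G.pairing I i j * mu G j l = -(if i = l then 1 else 0) := by
  have h0 : ∑ j ∈ Finset.univ.filter (fun j => j ∉ I), G.pairing I i j * mu G j l =
      ∑ j, G.pairing I i j * mu G j l := by
    apply Finset.sum_subset (Finset.subset_univ _)
    intro j _ hj
    have : j ∈ I := by
      by_contra hcon
      exact hj (by simp [hcon])
    rw [pairing_mem G I i j this, zero_mul]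
  rw [h0]
  unfold BlowupGraph.pairing
  simp only [sub_mul, Finset.sum_sub_distrib]
  rw [mat_mul_mu_apply]
  have h1 : ∑ j, (∑ a : I, ∑ b : I, G.mat i a.1 *
      (G.mat.submatrix (fun x : I => x.1) (fun x : I => x.1))⁻¹ a b * G.mat b.1 j) * mu G j l = 0 := by
    simp only [Finset.sum_mul]
    rw [Finset.sum_comm]
    apply Finset.sum_eq_zero
    intro a _
    rw [Finset.sum_comm]
    apply Finset.sum_eq_zero
    intro b _
    have : ∀ j, G.mat i a.1 * (G.mat.submatrix (fun x : I => x.1) (fun x : I => x.1))⁻¹ a b * G.mat b.1 j *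
        mu G j l = (G.mat i a.1 * (G.mat.submatrix (fun x : I => x.1) (fun x : I => x.1))⁻¹ a b) *
          (G.mat b.1 j * mu G j l) := by intro j; ring
    rw [Finset.sum_congr rfl (fun j _ => this j), ← Finset.mul_sum, mat_mul_mu_apply, if_neg, neg_zero, mul_zero]
    intro hb
    exact hl (hb ▸ b.2)
  rw [h1, sub_zero]

theorem lNum_eq_rNum (I : Finset (Fin n)) (σ : Equiv.Perm (Fin n)) : G.lNum I σ = BlowupGraph.rNum I σ := by
  unfold BlowupGraph.lNum BlowupGraph.rNum
  have h1 : ∀ i ∈ Finset.univ.filter (fun i => i ∉ I),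
      ∑ j ∈ Finset.univ.filter (fun j => j ∉ I), (G.mult i j : ℚ) * G.pairing I (σ i) j =
        -(if σ i = i then 1 else 0) := by
    intro i hi
    have hi' : i ∉ I := by simpa using hi
    rw [← pairing_mul_mu G I (σ i) i hi']
    apply Finset.sum_congr rfl
    intro j _
    have : (G.mult i j : ℚ) = mu G j i := (mu_symm G i j)
    rw [this]
    ring
  rw [Finset.sum_congr rfl h1, Finset.sum_neg_distrib]
  congr 1
  rw [← Finset.sum_filter, Finset.filter_filter]
  simp

end K855.Graph
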