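import Groth.Agent.ArLef.K855.Abs
import Mathlib.RingTheory.MvPowerSeries.Equiv
import Mathlib.RingTheory.MvPowerSeries.Inverse
import Mathlib.RingTheory.MvPowerSeries.NoZeroDivisors
import Mathlib.RingTheory.MvPowerSeries.Rename

/-! Basic structure of `B[[x,y]]/(xy - a)` when `a` generates the maximal ideal of the Noetherian local ring `B`. -/

set_option autoImplicit false
universe u

open IsLocalRing

namespace K855.Node

variable (B : Type u) [CommRing B]

/-- set the first variable to zero -/
noncomputable def kill : MvPowerSeries (Fin 2) B →+* MvPowerSeries (Fin 1) B :=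
  (PowerSeries.constantCoeff (R := MvPowerSeries (Fin 1) B)).comp
    (MvPowerSeries.finSuccEquiv B 1).toRingEquiv.toRingHom

theorem kill_X0 : kill B (MvPowerSeries.X 0) = 0 := by
  change PowerSeries.constantCoeff (MvPowerSeries.finSuccEquiv B 1 (MvPowerSeries.X 0)) = 0
  rw [MvPowerSeries.finSuccEquiv_X_zero]
  simp

theorem kill_X1 : kill B (MvPowerSeries.X 1) = MvPowerSeries.X 0 := by
  change PowerSeries.constantCoeff (MvPowerSeries.finSuccEquiv B 1 (MvPowerSeries.X (Fin.succ 0))) = _
  rw [MvPowerSeries.finSuccEquiv_X_succ]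
  simp

theorem kill_C (b : B) : kill B (MvPowerSeries.C b) = MvPowerSeries.C b := by
  change PowerSeries.constantCoeff (MvPowerSeries.finSuccEquiv B 1 (MvPowerSeries.C b)) = _
  rw [MvPowerSeries.finSuccEquiv_C]
  simp

theorem kill_surj : Function.Surjective (kill B) := by
  intro g
  refine ⟨(MvPowerSeries.finSuccEquiv B 1).symm (PowerSeries.C g), ?_⟩
  change PowerSeries.constantCoeff (MvPowerSeries.finSuccEquiv B 1
    ((MvPowerSeries.finSuccEquiv B 1).symm (PowerSeries.C g))) = _
  rw [AlgEquiv.apply_symm_apply]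
  simp

theorem exists_of_kill_eq_zero (F : MvPowerSeries (Fin 2) B) (h : kill B F = 0) :
    ∃ G, F = MvPowerSeries.X 0 * G := by
  have h1 : PowerSeries.constantCoeff (MvPowerSeries.finSuccEquiv B 1 F) = 0 := h
  obtain ⟨G, hG⟩ := PowerSeries.X_dvd_iff.2 h1
  refine ⟨(MvPowerSeries.finSuccEquiv B 1).symm G, ?_⟩
  apply (MvPowerSeries.finSuccEquiv B 1).injective
  rw [map_mul, MvPowerSeries.finSuccEquiv_X_zero, AlgEquiv.apply_symm_apply, hG]

theorem constantCoeff_kill (F : MvPowerSeries (Fin 2) B) :
    MvPowerSeries.constantCoeff (kill B F) = MvPowerSeries.constantCoeff F := by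
  have h1 : (MvPowerSeries.coeff (0 : Fin 1 →₀ ℕ)) (PowerSeries.coeff 0 (MvPowerSeries.finSuccEquiv B 1 F)) =
      MvPowerSeries.coeff ((0 : Fin 1 →₀ ℕ).cons 0) F := MvPowerSeries.coeff_coeff_finSuccEquiv F
  rw [Finsupp.cons_zero_zero] at h1
  rw [PowerSeries.coeff_zero_eq_constantCoeff_apply] at h1
  exact h1

/-- every power series in two variables is `c + X₀ G + X₁ H` -/
theorem exists_decomp (F : MvPowerSeries (Fin 2) B) :
    ∃ G H, F = MvPowerSeries.C (MvPowerSeries.constantCoeff F) + MvPowerSeries.X 0 * G +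
      MvPowerSeries.X 1 * H := by
  have h0 : MvPowerSeries.constantCoeff (kill B F - MvPowerSeries.C (MvPowerSeries.constantCoeff F)) = 0 := by
    rw [map_sub, constantCoeff_kill]
    simp
  have h1 : (MvPowerSeries.X 0 : MvPowerSeries (Fin 1) B) ∣
      kill B F - MvPowerSeries.C (MvPowerSeries.constantCoeff F) := by
    rw [MvPowerSeries.X_dvd_iff]
    intro m hm
    have : m = 0 := Finsupp.ext fun i => by
      rw [Subsingleton.elim i 0, hm]
      rfl
    rw [this]
    exact h0
  obtain ⟨H', hH'⟩ := h1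
  obtain ⟨H, rfl⟩ := kill_surj B H'
  obtain ⟨G, hG⟩ := exists_of_kill_eq_zero B
    (F - MvPowerSeries.C (MvPowerSeries.constantCoeff F) - MvPowerSeries.X 1 * H) (by
      rw [map_sub, map_sub, map_mul, kill_X1, kill_C, hH', sub_self])
  exact ⟨G, H, by linear_combination hG⟩

variable {B} (a : B)

open ArLef ArLef.NodeAlg

theorem t_mul_e : t a * e a = algebraMap B (NodeAlg B a) a := by
  have : (t a * e a : NodeAlg B a) = Ideal.Quotient.mk _ (MvPowerSeries.X 0 * MvPowerSeries.X 1) := rfl
  rw [this]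
  have h2 : algebraMap B (NodeAlg B a) a = Ideal.Quotient.mk _ (MvPowerSeries.C a) := rfl
  rw [h2, Ideal.Quotient.eq]
  exact Ideal.mem_span_singleton_self _

theorem decomp (r : NodeAlg B a) :
    ∃ b ∈ Set.range (algebraMap B (NodeAlg B a)), ∃ g h : NodeAlg B a, r = b + t a * g + e a * h := by
  obtain ⟨F, rfl⟩ := Ideal.Quotient.mk_surjective r
  obtain ⟨G, H, hF⟩ := exists_decomp B F
  refine ⟨_, ⟨MvPowerSeries.constantCoeff F, rfl⟩, Ideal.Quotient.mk _ G, Ideal.Quotient.mk _ H, ?_⟩
  have h2 : algebraMap B (NodeAlg B a) (MvPowerSeries.constantCoeff F) =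
    Ideal.Quotient.mk _ (MvPowerSeries.C (MvPowerSeries.constantCoeff F)) := rfl
  rw [h2, ← map_mul, ← map_mul, ← map_add, ← map_add, ← hF]

/-- The map to the branch `t = 0`. -/
noncomputable def toBranch : NodeAlg B a →+* MvPowerSeries (Fin 1) (B ⧸ Ideal.span {a}) :=
  Ideal.Quotient.lift _ ((MvPowerSeries.map (Ideal.Quotient.mk (Ideal.span {a}))).comp (kill B)) (by
    intro x hx
    obtain ⟨c, rfl⟩ := Ideal.mem_span_singleton'.1 hx
    rw [map_mul]
    have : ((MvPowerSeries.map (Ideal.Quotient.mk (Ideal.span {a}))).comp (kill B))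
        (MvPowerSeries.X 0 * MvPowerSeries.X 1 - MvPowerSeries.C a) = 0 := by
      rw [RingHom.comp_apply, map_sub, map_mul, kill_X0, kill_C, zero_mul, zero_sub, map_neg,
        MvPowerSeries.map_C, Ideal.Quotient.eq_zero_iff_mem.2 (Ideal.mem_span_singleton_self a)]
      simp
    rw [this, mul_zero])

theorem toBranch_mk (F : MvPowerSeries (Fin 2) B) : toBranch a (Ideal.Quotient.mk _ F) =
    MvPowerSeries.map (Ideal.Quotient.mk (Ideal.span {a})) (kill B F) := rfl

theorem toBranch_t : toBranch a (t a) = 0 := by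
  rw [toBranch_mk, kill_X0, map_zero]

theorem toBranch_e : toBranch a (e a) = MvPowerSeries.X 0 := by
  rw [toBranch_mk, kill_X1, MvPowerSeries.map_X]

theorem dvd_of_map_eq_zero (G : MvPowerSeries (Fin 1) B)
    (h : MvPowerSeries.map (Ideal.Quotient.mk (Ideal.span {a})) G = 0) :
    ∃ H, G = MvPowerSeries.C a * H := by
  have h1 : ∀ n, ∃ c : B, MvPowerSeries.coeff n G = a * c := by
    intro n
    have := congrArg (MvPowerSeries.coeff n) h
    rw [MvPowerSeries.coeff_map, map_zero, Ideal.Quotient.eq_zero_iff_mem] at this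
    obtain ⟨c, hc⟩ := Ideal.mem_span_singleton'.1 this
    exact ⟨c, by rw [← hc]; ring⟩
  choose c hc using h1
  refine ⟨fun n => c n, ?_⟩
  ext n
  rw [MvPowerSeries.coeff_C_mul, hc n]
  rfl

theorem ker_toBranch : RingHom.ker (toBranch a) = Ideal.span {t a} := by
  apply le_antisymm
  · intro x hx
    obtain ⟨F, rfl⟩ := Ideal.Quotient.mk_surjective x
    rw [RingHom.mem_ker, toBranch_mk] at hx
    obtain ⟨H', hH'⟩ := dvd_of_map_eq_zero a _ hx
    obtain ⟨H, rfl⟩ := kill_surj B H'
    obtain ⟨G, hG⟩ := exists_of_kill_eq_zero B (F - MvPowerSeries.C a * H) (by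
      rw [map_sub, map_mul, kill_C, hH', sub_self])
    rw [Ideal.mem_span_singleton']
    refine ⟨Ideal.Quotient.mk _ G + e a * Ideal.Quotient.mk _ H, ?_⟩
    have h2 : (Ideal.Quotient.mk _ (MvPowerSeries.C a) : NodeAlg B a) = t a * e a := (t_mul_e a).symm
    have h3 : (Ideal.Quotient.mk _ F : NodeAlg B a) =
        Ideal.Quotient.mk _ (MvPowerSeries.X 0) * Ideal.Quotient.mk _ G +
          Ideal.Quotient.mk _ (MvPowerSeries.C a) * Ideal.Quotient.mk _ H := by
      rw [← map_mul, ← map_mul, ← map_add, ← hG]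
      congr 1
      ring
    rw [h3, h2]
    ring
  · rw [Ideal.span_singleton_le_iff_mem, RingHom.mem_ker, toBranch_t]

theorem isPrime_span_t [(Ideal.span {a}).IsPrime] : (Ideal.span {t a}).IsPrime := by
  rw [← ker_toBranch]
  have : IsDomain (B ⧸ Ideal.span {a}) := Ideal.Quotient.isDomain _
  have : Nontrivial (MvPowerSeries (Fin 1) (B ⧸ Ideal.span {a})) := inferInstance
  have : NoZeroDivisors (MvPowerSeries (Fin 1) (B ⧸ Ideal.span {a})) := inferInstance
  have : IsDomain (MvPowerSeries (Fin 1) (B ⧸ Ideal.span {a})) := NoZeroDivisors.to_isDomain _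
  exact RingHom.ker_isPrime _

theorem e_not_mem [Nontrivial (B ⧸ Ideal.span {a})] : e a ∉ Ideal.span {t a} := by
  rw [← ker_toBranch, RingHom.mem_ker, toBranch_e]
  intro h
  have := congrArg (MvPowerSeries.coeff (Finsupp.single 0 1)) h
  rw [MvPowerSeries.coeff_index_single_self_X] at this
  simp at this

/-! swapping the variables -/

theorem renEq (F : MvPowerSeries (Fin 2) B) : MvPowerSeries.renameEquiv B (Equiv.swap (0 : Fin 2) 1) F =
    MvPowerSeries.rename (Equiv.swap (0 : Fin 2) 1) F := rfl

/-- the automorphism exchanging the two variables -/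
noncomputable def swap : NodeAlg B a ≃+* NodeAlg B a :=
  Ideal.quotientEquiv _ _ (MvPowerSeries.renameEquiv B (Equiv.swap (0 : Fin 2) 1)).toRingEquiv (by
    rw [Ideal.map_span, Set.image_singleton]
    congr 2
    change _ = MvPowerSeries.renameEquiv B (Equiv.swap (0 : Fin 2) 1) _
    rw [renEq]
    rw [map_sub, map_mul, MvPowerSeries.rename_X, MvPowerSeries.rename_X, MvPowerSeries.rename_C]
    simp [mul_comm])

theorem swap_mk (F : MvPowerSeries (Fin 2) B) : swap a (Ideal.Quotient.mk _ F) =
    Ideal.Quotient.mk _ (MvPowerSeries.renameEquiv B (Equiv.swap (0 : Fin 2) 1) F) := rfl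

theorem swap_t : swap a (t a) = e a := by
  rw [swap_mk, renEq, MvPowerSeries.rename_X]
  rfl

theorem swap_e : swap a (e a) = t a := by
  rw [swap_mk, renEq, MvPowerSeries.rename_X]
  rfl

theorem swap_algebraMap (b : B) : swap a (algebraMap B (NodeAlg B a) b) = algebraMap B (NodeAlg B a) b := by
  have h2 : algebraMap B (NodeAlg B a) b = Ideal.Quotient.mk _ (MvPowerSeries.C b) := rfl
  rw [h2, swap_mk, renEq, MvPowerSeries.rename_C]

theorem span_e_eq : Ideal.span {e a} = (Ideal.span {t a}).map (swap a) := by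
  rw [Ideal.map_span, Set.image_singleton, swap_t]

theorem mem_span_e_iff (x : NodeAlg B a) : swap a x ∈ Ideal.span {e a} ↔ x ∈ Ideal.span {t a} := by
  rw [Ideal.mem_span_singleton, Ideal.mem_span_singleton, ← swap_t]
  exact map_dvd_iff (swap a)

theorem isPrime_span_e [(Ideal.span {a}).IsPrime] : (Ideal.span {e a}).IsPrime := by
  have := isPrime_span_t a
  rw [span_e_eq]
  exact Ideal.map_isPrime_of_equiv (swap a)

theorem t_not_mem [Nontrivial (B ⧸ Ideal.span {a})] : t a ∉ Ideal.span {e a} := by
  intro h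
  rw [← swap_e, mem_span_e_iff] at h
  exact e_not_mem a h

/-! locality -/

section Local

/-- the constant coefficient modulo `a` -/
noncomputable def aug : NodeAlg B a →+* B ⧸ Ideal.span {a} :=
  (MvPowerSeries.constantCoeff (σ := Fin 1)).comp (toBranch a)

theorem aug_surj : Function.Surjective (aug a) := by
  intro x
  obtain ⟨b, rfl⟩ := Ideal.Quotient.mk_surjective x
  refine ⟨algebraMap B _ b, ?_⟩
  have h2 : algebraMap B (NodeAlg B a) b = Ideal.Quotient.mk _ (MvPowerSeries.C b) := rfl
  rw [h2, aug, RingHom.comp_apply, toBranch_mk, kill_C, MvPowerSeries.map_C, MvPowerSeries.constantCoeff_C]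

theorem aug_algebraMap (b : B) : aug a (algebraMap B _ b) = Ideal.Quotient.mk _ b := by
  have h2 : algebraMap B (NodeAlg B a) b = Ideal.Quotient.mk _ (MvPowerSeries.C b) := rfl
  rw [h2, aug, RingHom.comp_apply, toBranch_mk, kill_C, MvPowerSeries.map_C, MvPowerSeries.constantCoeff_C]

theorem aug_t : aug a (t a) = 0 := by
  rw [aug, RingHom.comp_apply, toBranch_t, map_zero]

theorem aug_e : aug a (e a) = 0 := by
  rw [aug, RingHom.comp_apply, toBranch_e]
  simp

theorem ker_aug : RingHom.ker (aug a) = Ideal.span {t a, e a} := by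
  apply le_antisymm
  · intro x hx
    obtain ⟨_, ⟨b, rfl⟩, g, h, rfl⟩ := decomp a x
    rw [RingHom.mem_ker, map_add, map_add, map_mul, map_mul, aug_t, aug_e, zero_mul, zero_mul, add_zero,
      add_zero, aug_algebraMap, Ideal.Quotient.eq_zero_iff_mem] at hx
    obtain ⟨c, rfl⟩ := Ideal.mem_span_singleton'.1 hx
    rw [Ideal.mem_span_pair, map_mul, ← t_mul_e]
    exact ⟨algebraMap B _ c * e a + g, h, by ring⟩
  · rw [Ideal.span_le]
    rintro x (rfl | rfl)
    · exact aug_t a
    · exact aug_e a

variable [IsLocalRing B] (ha : maximalIdeal B = Ideal.span {a})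

include ha in
theorem isMaximal_span : (Ideal.span {a}).IsMaximal := ha ▸ (inferInstance : (maximalIdeal B).IsMaximal)

include ha in
theorem isMaximal_ker : (RingHom.ker (aug a)).IsMaximal := by
  have := isMaximal_span a ha
  let _ : Field (B ⧸ Ideal.span {a}) := Ideal.Quotient.field _
  exact RingHom.ker_isMaximal_of_surjective (aug a) (aug_surj a)

include ha in
theorem nontrivial_nodeAlg : Nontrivial (NodeAlg B a) := by
  have := isMaximal_span a ha
  exact (aug a).domain_nontrivial

include ha in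
theorem isLocalRing_nodeAlg : IsLocalRing (NodeAlg B a) := by
  have := nontrivial_nodeAlg a ha
  exact IsLocalRing.of_surjective' (Ideal.Quotient.mk _) Ideal.Quotient.mk_surjective

include ha in
theorem maximalIdeal_eq [IsLocalRing (NodeAlg B a)] : maximalIdeal (NodeAlg B a) = Ideal.span {t a, e a} := by
  rw [← ker_aug]
  exact (IsLocalRing.eq_maximalIdeal (isMaximal_ker a ha)).symm

end Local

/-! regularity and domain -/

section Domain

variable [IsDomain B] (hne : a ≠ 0)

include hne in
theorem t_regular (x : NodeAlg B a) (h : t a * x = 0) : x = 0 := by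
  obtain ⟨F, rfl⟩ := Ideal.Quotient.mk_surjective x
  rw [← map_mul, Ideal.Quotient.eq_zero_iff_mem, Ideal.mem_span_singleton'] at h
  obtain ⟨G, hG⟩ := h
  have h1 := congrArg (kill B) hG
  rw [map_mul, map_sub, map_mul, map_mul, kill_X0, kill_C, zero_mul, zero_sub, zero_mul] at h1
  have h2 : kill B G = 0 := by
    have h3 : (MvPowerSeries.C a : MvPowerSeries (Fin 1) B) ≠ 0 := by
      intro h
      apply hne
      have := congrArg MvPowerSeries.constantCoeff h
      rwa [MvPowerSeries.constantCoeff_C, map_zero] at this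
    rcases mul_eq_zero.1 h1 with h | h
    · exact h
    · exact absurd (neg_eq_zero.1 h) h3
  obtain ⟨G', rfl⟩ := exists_of_kill_eq_zero B G h2
  rw [Ideal.Quotient.eq_zero_iff_mem, Ideal.mem_span_singleton']
  refine ⟨G', ?_⟩
  have hX : (MvPowerSeries.X 0 : MvPowerSeries (Fin 2) B) ≠ 0 := by
    intro h
    have := congrArg (MvPowerSeries.coeff (Finsupp.single 0 1)) h
    rw [MvPowerSeries.coeff_index_single_self_X] at this
    simp at this
  apply mul_left_cancel₀ hX
  rw [← hG]; ring

end Domain

theorem isDomain_of_prime_regular {N : Type u} [CommRing N] [IsNoetherianRing N] [IsLocalRing N] (t : N)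
    (ht : (Ideal.span {t}).IsPrime) (hreg : ∀ x, t * x = 0 → x = 0) : IsDomain N := by
  have hle : Ideal.span {t} ≤ maximalIdeal N := IsLocalRing.le_maximalIdeal ht.ne_top
  have hsep : ∀ x : N, x ≠ 0 → ∃ n, ∃ y, x = t ^ n * y ∧ y ∉ Ideal.span {t} := by
    intro x hx
    have h1 : ∃ n, x ∉ Ideal.span {t ^ n} := by
      by_contra hcon
      push Not at hcon
      apply hx
      have h2 := Ideal.iInf_pow_eq_bot_of_isLocalRing (Ideal.span {t}) ht.ne_top
      rw [← Ideal.mem_bot, ← h2, Submodule.mem_iInf]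
      intro n
      rw [Ideal.span_singleton_pow]
      exact hcon n
    classical
    have hspec := Nat.find_spec h1
    have hpos : Nat.find h1 ≠ 0 := by
      intro h0
      rw [h0] at hspec
      exact hspec (by simp)
    obtain ⟨m, hm⟩ := Nat.exists_eq_succ_of_ne_zero hpos
    have h3 : x ∈ Ideal.span {t ^ m} := by
      have := Nat.find_min h1 (m := m) (by omega)
      push Not at this
      exact this
    obtain ⟨y, hy⟩ := Ideal.mem_span_singleton'.1 h3
    refine ⟨m, y, by rw [← hy]; ring, ?_⟩
    intro hyt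
    apply hspec
    obtain ⟨z, hz⟩ := Ideal.mem_span_singleton'.1 hyt
    rw [hm, Ideal.mem_span_singleton']
    exact ⟨z, by rw [← hy, ← hz, Nat.succ_eq_add_one, pow_succ]; ring⟩
  have hregn : ∀ (n : ℕ) (x : N), t ^ n * x = 0 → x = 0 := by
    intro n
    induction n with
    | zero => intro x hx; simpa using hx
    | succ n ih =>
      intro x hx
      apply ih
      apply hreg
      rw [← hx, pow_succ]; ring
  have : NoZeroDivisors N := by
    constructor
    intro x y hxy
    by_contra hcon
    push Not at hcon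
    obtain ⟨n, x', rfl, hx'⟩ := hsep x hcon.1
    obtain ⟨m, y', rfl, hy'⟩ := hsep y hcon.2
    have h4 : x' * y' = 0 := by
      apply hregn (n + m)
      rw [← hxy, pow_add]; ring
    have h5 : x' * y' ∈ Ideal.span {t} := by rw [h4]; exact zero_mem _
    rcases ht.mem_or_mem h5 with h | h
    · exact hx' h
    · exact hy' h
  exact NoZeroDivisors.to_isDomain N

end K855.Node
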