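import Mathlib.AlgebraicGeometry.IdealSheaf.Functorial
import Mathlib.AlgebraicGeometry.Morphisms.ClosedImmersion
import Mathlib.AlgebraicGeometry.PullbackCarrier
import Mathlib.AlgebraicGeometry.ResidueField

/-! Pieces of a closed subscheme over open subsets of the base. -/

set_option autoImplicit false
universe u

open CategoryTheory CategoryTheory.Limits AlgebraicGeometry

namespace K855.Piece

lemma le_ker_comp_of_comap_le {Z X Y : Scheme.{u}} (i : Z ⟶ X) (f : X ⟶ Y) (J : Y.IdealSheafData)
    (h : J.comap f ≤ i.ker) : J ≤ (i ≫ f).ker := by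
  refine (Scheme.IdealSheafData.le_map_iff_comap_le.2 h).trans ?_
  have h1 : i ≫ f = i.toImage ≫ i.imageι ≫ f := by rw [Scheme.Hom.toImage_imageι_assoc]
  rw [h1]
  exact Scheme.Hom.le_ker_comp _ _

theorem exists_piece {X T P : Scheme.{u}} (ρ : T ⟶ X) (I : X.IdealSheafData) (U : X.Opens)
    (i : P ⟶ pullback U.ι ρ) [IsClosedImmersion i]
    (hi : i.ker = (I.comap U.ι).comap (pullback.fst U.ι ρ)) :
    ∃ a : P ⟶ pullback ρ I.subschemeι, IsOpenImmersion a ∧
      Set.range a = (pullback.fst ρ I.subschemeι ≫ ρ) ⁻¹' (U : Set X) := by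
  have hk : (pullback.fst ρ I.subschemeι).ker.comap (pullback.snd U.ι ρ) = i.ker := by
    rw [Scheme.IdealSheafData.ker_fst_of_isClosedImmersion, Scheme.IdealSheafData.ker_subschemeι, hi,
      ← Scheme.IdealSheafData.comap_comp, ← Scheme.IdealSheafData.comap_comp, pullback.condition]
  have hle : (pullback.fst ρ I.subschemeι).ker ≤ (i ≫ pullback.snd U.ι ρ).ker :=
    le_ker_comp_of_comap_le _ _ _ hk.le
  have hsq : IsPullback i (IsClosedImmersion.lift (pullback.fst ρ I.subschemeι) (i ≫ pullback.snd U.ι ρ) hle)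
      (pullback.snd U.ι ρ) (pullback.fst ρ I.subschemeι) :=
    isPullback_of_isClosedImmersion _ _ _ _ (IsClosedImmersion.lift_fac _ _ _).symm hk
  refine ⟨IsClosedImmersion.lift (pullback.fst ρ I.subschemeι) (i ≫ pullback.snd U.ι ρ) hle,
    MorphismProperty.of_isPullback hsq (inferInstance : IsOpenImmersion (pullback.snd U.ι ρ)), ?_⟩
  ext e
  constructor
  · rintro ⟨x, rfl⟩
    rw [Set.mem_preimage, ← Scheme.Hom.comp_apply, ← Category.assoc, IsClosedImmersion.lift_fac, Category.assoc,
      ← pullback.condition, Scheme.Hom.comp_apply, Scheme.Hom.comp_apply]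
    exact (pullback.fst U.ι ρ (i x)).2
  · intro he
    have h1 : pullback.fst ρ I.subschemeι e ∈ Set.range (pullback.snd U.ι ρ) := by
      rw [Scheme.Pullback.range_snd, Set.mem_preimage]
      rw [Set.mem_preimage, Scheme.Hom.comp_apply] at he
      rw [Scheme.Opens.range_ι]
      exact he
    obtain ⟨w, hw⟩ := h1
    obtain ⟨z, -, hz⟩ := Scheme.Pullback.exists_preimage_pullback w e hw
    refine ⟨hsq.isoPullback.inv z, ?_⟩
    rw [← Scheme.Hom.comp_apply, IsPullback.isoPullback_inv_snd]
    exact hz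

end K855.Piece
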