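import Groth.Agent.ArLef.K855.Calc
import Mathlib.RingTheory.PowerSeries.Ideal
import Mathlib.RingTheory.PowerSeries.Inverse
import Mathlib.RingTheory.PowerSeries.NoZeroDivisors
import Mathlib.RingTheory.LocalRing.ResidueField.Basic

/-! Fixed-point ideals of automorphisms of `B[[X]]` over an automorphism of `B`. -/

set_option autoImplicit false
universe u

open IsLocalRing

namespace K855.Smooth

open K855.Abs

variable (B : Type u) [CommRing B] [IsDomain B] [IsDiscreteValuationRing B] (π : B) (hπ : Irreducible π)

theorem X_mem : (PowerSeries.X : PowerSeries B) ∈ maximalIdeal (PowerSeries B) := by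
  rw [mem_maximalIdeal, mem_nonunits_iff, PowerSeries.isUnit_iff_constantCoeff]
  simp

omit [IsDomain B] [IsDiscreteValuationRing B] in
theorem decomp (r : PowerSeries B) : ∃ b ∈ Set.range (algebraMap B (PowerSeries B)),
    ∃ g h : PowerSeries B, r = b + PowerSeries.X * g + 0 * h := by
  have h0 : PowerSeries.constantCoeff (r - PowerSeries.C (PowerSeries.constantCoeff r)) = 0 := by simp
  obtain ⟨g, hg⟩ := PowerSeries.X_dvd_iff.2 h0
  refine ⟨_, ⟨PowerSeries.constantCoeff r, rfl⟩, g, 0, ?_⟩
  have h2 : algebraMap B (PowerSeries B) (PowerSeries.constantCoeff r) =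
    PowerSeries.C (PowerSeries.constantCoeff r) := rfl
  rw [h2]
  linear_combination hg

variable (j : ℕ) (γ : B) (hγ : IsUnit γ)
    (σ : PowerSeries B ≃+* PowerSeries B)
    (hσB : ∀ b : B, σ (algebraMap B (PowerSeries B) b) - algebraMap B (PowerSeries B) b ∈
      Ideal.span ({algebraMap B (PowerSeries B) (π ^ j)} : Set (PowerSeries B)))
    (hσπ : σ (algebraMap B (PowerSeries B) π) = algebraMap B (PowerSeries B) (π + γ * π ^ j))

include hγ hσπ in
omit [IsDomain B] [IsDiscreteValuationRing B] in
theorem pi_pow_mem : algebraMap B (PowerSeries B) (π ^ j) ∈ ArLef.fixIdeal σ := by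
  have h1 := sub_mem_fixIdeal σ (algebraMap B (PowerSeries B) π)
  obtain ⟨γ', hγ'⟩ := hγ.exists_left_inv
  have h2 : algebraMap B (PowerSeries B) (π ^ j) = algebraMap B (PowerSeries B) γ' *
      (σ (algebraMap B (PowerSeries B) π) - algebraMap B (PowerSeries B) π) := by
    have h3 : π ^ j = γ' * (π + γ * π ^ j - π) := by linear_combination (-π ^ j) * hγ'
    have h4 := congrArg (algebraMap B (PowerSeries B)) h3
    rw [hσπ, h4, map_mul, map_sub]
  rw [h2]
  exact Ideal.mul_mem_left _ _ h1

include hγ hσB hσπ in
theorem fixIdeal_eq_gens : ArLef.fixIdeal σ =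
    Ideal.span {σ PowerSeries.X - PowerSeries.X, algebraMap B (PowerSeries B) (π ^ j)} := by
  apply fixIdeal_eq _ (σ : PowerSeries B →+* PowerSeries B) PowerSeries.X 0
      (X_mem B) (zero_mem _) (Set.range (algebraMap B _)) (decomp B)
  · rintro _ ⟨b, rfl⟩
    exact Ideal.span_mono (by simp) (hσB b)
  · exact Ideal.subset_span (by simp)
  · rw [map_zero, sub_self]
    exact zero_mem _
  · rw [Ideal.span_le]
    rintro z (rfl | rfl)
    · exact sub_mem_fixIdeal σ _
    · exact pi_pow_mem B π j γ hγ σ hσπ

omit [IsDomain B] [IsDiscreteValuationRing B] in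
theorem dvd_of_map_eq_zero [IsLocalRing B] (hm : maximalIdeal B = Ideal.span {π}) (G : PowerSeries B)
    (h : PowerSeries.map (residue B) G = 0) : algebraMap B (PowerSeries B) π ∣ G := by
  have h1 : ∀ n, ∃ c : B, PowerSeries.coeff n G = π * c := by
    intro n
    have := congrArg (PowerSeries.coeff n) h
    rw [PowerSeries.coeff_map, map_zero, IsLocalRing.residue_eq_zero_iff, hm] at this
    obtain ⟨c, hc⟩ := Ideal.mem_span_singleton'.1 this
    exact ⟨c, by rw [← hc]; ring⟩
  choose c hc using h1
  refine ⟨PowerSeries.mk c, ?_⟩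
  have h2 : algebraMap B (PowerSeries B) π = PowerSeries.C π := rfl
  rw [h2]
  ext n
  rw [PowerSeries.coeff_C_mul, hc n, PowerSeries.coeff_mk]

omit [IsDomain B] [IsDiscreteValuationRing B] in
theorem map_eq_zero_of_dvd [IsLocalRing B] (hm : maximalIdeal B = Ideal.span {π}) (G : PowerSeries B)
    (h : algebraMap B (PowerSeries B) π ∣ G) : PowerSeries.map (residue B) G = 0 := by
  obtain ⟨H, rfl⟩ := h
  have h2 : algebraMap B (PowerSeries B) π = PowerSeries.C π := rfl
  rw [map_mul, h2, PowerSeries.map_C]
  have : residue B π = 0 := by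
    rw [IsLocalRing.residue_eq_zero_iff, hm]
    exact Ideal.mem_span_singleton_self _
  rw [this]
  simp

include hπ in
theorem prime_pi : Prime (algebraMap B (PowerSeries B) π) := by
  have hm := hπ.maximalIdeal_eq
  have hne : algebraMap B (PowerSeries B) π ≠ 0 := by
    intro h
    apply hπ.ne_zero
    have := congrArg PowerSeries.constantCoeff h
    have h2 : algebraMap B (PowerSeries B) π = PowerSeries.C π := rfl
    rwa [h2, PowerSeries.constantCoeff_C, map_zero] at this
  refine ⟨hne, ?_, ?_⟩
  · intro hu
    rw [PowerSeries.isUnit_iff_constantCoeff] at hu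
    have h2 : algebraMap B (PowerSeries B) π = PowerSeries.C π := rfl
    rw [h2, PowerSeries.constantCoeff_C] at hu
    exact hπ.not_isUnit hu
  · intro x y hxy
    have := map_eq_zero_of_dvd B π hm _ hxy
    rw [map_mul, mul_eq_zero] at this
    rcases this with h | h
    · exact Or.inl (dvd_of_map_eq_zero B π hm _ h)
    · exact Or.inr (dvd_of_map_eq_zero B π hm _ h)

include hπ in
/-- `length B[[X]]/(f, π)` is the length of `k[[X]]/(f mod π)` -/
theorem length_mod (f : PowerSeries B) :
    Module.length (PowerSeries B) (PowerSeries B ⧸ Ideal.span {f, algebraMap B (PowerSeries B) π}) =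
      Module.length (PowerSeries (ResidueField B)) (PowerSeries (ResidueField B) ⧸
        Ideal.span ({PowerSeries.map (residue B) f} : Set (PowerSeries (ResidueField B)))) := by
  have hm := hπ.maximalIdeal_eq
  let φ : PowerSeries B →+* PowerSeries (ResidueField B) := PowerSeries.map (residue B)
  have hφ : Function.Surjective φ := PowerSeries.map_surjective _ IsLocalRing.residue_surjective
  let _ : Algebra (PowerSeries B) (PowerSeries (ResidueField B)) := φ.toAlgebra
  let Q := PowerSeries (ResidueField B) ⧸
        Ideal.span ({PowerSeries.map (residue B) f} : Set (PowerSeries (ResidueField B)))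
  have hsc : IsScalarTower (PowerSeries B) (PowerSeries (ResidueField B)) Q := inferInstance
  rw [← Module.length_eq_of_surjective (S := PowerSeries B) (R := PowerSeries (ResidueField B)) (M := Q) hφ]
  let g : PowerSeries B →ₗ[PowerSeries B] Q :=
    (Submodule.mkQ (Ideal.span ({PowerSeries.map (residue B) f} : Set (PowerSeries (ResidueField B))))).restrictScalars
      (PowerSeries B) ∘ₗ (Algebra.linearMap (PowerSeries B) (PowerSeries (ResidueField B)))
  have hg : Function.Surjective g := by
    intro x
    obtain ⟨y, rfl⟩ := Submodule.Quotient.mk_surjective _ x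
    obtain ⟨z, rfl⟩ := hφ y
    exact ⟨z, rfl⟩
  have hker : LinearMap.ker g = Ideal.span {f, algebraMap B (PowerSeries B) π} := by
    ext x
    rw [LinearMap.mem_ker]
    have : g x = Submodule.Quotient.mk (φ x) := rfl
    rw [this, Submodule.Quotient.mk_eq_zero, Ideal.mem_span_pair, Ideal.mem_span_singleton']
    constructor
    · rintro ⟨a, ha⟩
      obtain ⟨a, rfl⟩ := hφ a
      have h1 : PowerSeries.map (residue B) (x - a * f) = 0 := by
        rw [map_sub, map_mul]
        exact sub_eq_zero.2 ha.symm
      obtain ⟨b, hb⟩ := dvd_of_map_eq_zero B π hm _ h1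
      exact ⟨a, b, by linear_combination -hb⟩
    · rintro ⟨a, b, rfl⟩
      refine ⟨φ a, ?_⟩
      have h1 := map_eq_zero_of_dvd B π hm (b * algebraMap B (PowerSeries B) π) (Dvd.intro_left b rfl)
      change _ = PowerSeries.map (residue B) _
      rw [map_add, h1, add_zero, map_mul]
  rw [← hker]
  exact (g.quotKerEquivOfSurjective hg).length_eq

end K855.Smooth
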