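import Groth.Agent.ArLef.K855.Calc

/-! Fixed-point ideals of automorphisms of `B[[x,y]]/(xy - π)` over an automorphism of `B`. -/

set_option autoImplicit false
universe u

open IsLocalRing ArLef ArLef.NodeAlg

namespace K855.Stab

open K855.Abs K855.DVR

variable (B : Type u) [CommRing B] [IsDomain B] [IsDiscreteValuationRing B] (π : B) (hπ : Irreducible π)
    (j : ℕ) (hj : 1 ≤ j) (γ : B) (hγ : IsUnit γ)
    (σ : NodeAlg B π ≃+* NodeAlg B π)
    (hσB : ∀ b : B, σ (algebraMap B (NodeAlg B π) b) - algebraMap B (NodeAlg B π) b ∈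
      Ideal.span ({algebraMap B (NodeAlg B π) (π ^ j)} : Set (NodeAlg B π)))
    (hσπ : σ (algebraMap B (NodeAlg B π) π) = algebraMap B (NodeAlg B π) (π + γ * π ^ j))

omit [IsDomain B] [IsDiscreteValuationRing B] in
theorem map_pi_pow (j : ℕ) : algebraMap B (NodeAlg B π) (π ^ j) = (t π * e π) ^ j := by
  rw [map_pow, K855.Node.t_mul_e]

include hγ hσπ in
theorem pi_pow_mem : (t π * e π) ^ j ∈ fixIdeal σ := by
  have h1 := sub_mem_fixIdeal σ (algebraMap B (NodeAlg B π) π)
  obtain ⟨γ', hγ'⟩ := hγ.exists_left_inv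
  have h2 : (t π * e π) ^ j = algebraMap B (NodeAlg B π) γ' *
      (σ (algebraMap B (NodeAlg B π) π) - algebraMap B (NodeAlg B π) π) := by
    have h3 : π ^ j = γ' * (π + γ * π ^ j - π) := by linear_combination (-π ^ j) * hγ'
    have h4 := congrArg (algebraMap B (NodeAlg B π)) h3
    rw [map_pi_pow] at h4
    rw [hσπ, h4, map_mul, map_sub]
  rw [h2]
  exact Ideal.mul_mem_left _ _ h1

include hπ hj hσπ in
/-- stabilizing case: the product of the two units -/
theorem prod_stab (α β : (NodeAlg B π)ˣ) (ht : σ (t π) = α * t π) (he : σ (e π) = β * e π) :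
    (α : NodeAlg B π) * β = 1 + algebraMap B _ γ * (t π * e π) ^ (j - 1) := by
  have hN := isNode B π hπ
  have := hN.dom
  have hte : t π * e π ≠ 0 := mul_ne_zero hN.prime_t.ne_zero hN.prime_e.ne_zero
  rw [map_add, map_mul, map_pi_pow, ← K855.Node.t_mul_e, map_mul, ht, he] at hσπ
  obtain ⟨i, rfl⟩ : ∃ i, j = i + 1 := ⟨j - 1, by omega⟩
  apply mul_left_cancel₀ hte
  rw [Nat.add_sub_cancel]
  linear_combination hσπ

include hπ hj hσπ in
/-- switching case: the product of the two units -/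
theorem prod_switch (α β : (NodeAlg B π)ˣ) (ht : σ (t π) = α * e π) (he : σ (e π) = β * t π) :
    (α : NodeAlg B π) * β = 1 + algebraMap B _ γ * (t π * e π) ^ (j - 1) := by
  have hN := isNode B π hπ
  have := hN.dom
  have hte : t π * e π ≠ 0 := mul_ne_zero hN.prime_t.ne_zero hN.prime_e.ne_zero
  rw [map_add, map_mul, map_pi_pow, ← K855.Node.t_mul_e, map_mul, ht, he] at hσπ
  obtain ⟨i, rfl⟩ : ∃ i, j = i + 1 := ⟨j - 1, by omega⟩
  apply mul_left_cancel₀ hte
  rw [Nat.add_sub_cancel]
  linear_combination hσπ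

include hπ hγ hσB hσπ in
theorem fixIdeal_eq_gens : fixIdeal σ = Ideal.span {(t π * e π) ^ j, σ (t π) - t π, σ (e π) - e π} := by
  have hN := isNode B π hπ
  have := hN.noeth
  have := hN.loc
  apply fixIdeal_eq _ (σ : NodeAlg B π →+* NodeAlg B π) (t π) (e π)
      hN.t_mem hN.e_mem (Set.range (algebraMap B _)) (K855.Node.decomp π)
  · rintro _ ⟨b, rfl⟩
    have := hσB b
    rw [map_pi_pow] at this
    exact Ideal.span_mono (by simp) this
  · exact Ideal.subset_span (by simp)
  · exact Ideal.subset_span (by simp)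
  · rw [Ideal.span_le]
    rintro z (rfl | rfl | rfl)
    · exact pi_pow_mem B π j γ hγ σ hσπ
    · exact sub_mem_fixIdeal σ _
    · exact sub_mem_fixIdeal σ _

end K855.Stab
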